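import Cfsg.Agent.Mrg.Omega.VP
import Cfsg.Agent.Mrg.Omega.Half.Basic

section


/-!
# Exit N2, the core (text bb OMEGA 12859, helper690)

`S` a Sylow 2-subgroup of `G` (characteristic 2 type), `p : Fin 5 → G` the five singular vectors of the
`O₄⁻(2)`-module `V` for `P ≥ S`, `P` inducing all permutations of the five points, `Ω₁(Z(S)) = ⟨p 4⟩`,
`n = p 0 * p 1`, `S` permuting `n` and `p 2 * p 3`.  If `n` is 2-central then there is `P' ∈ P*(S)` with
`V_{P'} = {1, n, p 2 * p 3, p 4}`; if moreover some `t ∈ C(n)` induces the transposition `(0 1)` on the five points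
and `[O₂(C(n)), t] ≤ ⟨n⟩`, then `P'` and `C(p 4)` are in no common 2-local subgroup.
-/

set_option autoImplicit false

namespace Cfsg.Agent.Omega.NTwo

open Subgroup Cfsg Cfsg.Agent.ZN Cfsg.Agent.MinSimple.VModule
open Cfsg.Agent.Omega.MinPar (IsPar IsParS IsLoc NonLoc)

universe u

variable {G : Type u} [Group G]

theorem cm (g x y : G) : g * (x * y) * g⁻¹ = (g * x * g⁻¹) * (g * y * g⁻¹) := by group

theorem cc (g h x : G) : g * (h * x * h⁻¹) * g⁻¹ = (g * h) * x * (g * h)⁻¹ := by group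

theorem ci (g x : G) : g⁻¹ * (g * x * g⁻¹) * g = x := by group

theorem conj_inj {g x y : G} (h : g * x * g⁻¹ = g * y * g⁻¹) : x = y :=
  mul_left_cancel (mul_right_cancel h)

theorem comm_iff {g x : G} : g * x * g⁻¹ = x ↔ g * x = x * g := by
  constructor
  · intro h
    calc g * x = g * x * g⁻¹ * g := by group
      _ = x * g := by rw [h]
  · intro h
    rw [h]; group

theorem mem_cent {g x : G} : g ∈ centralizer ({x} : Set G) ↔ g * x * g⁻¹ = x := by
  rw [mem_centralizer_singleton_iff, comm_iff]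

/-- Five points permuted by `P` as the symmetric group of degree 5, with product 1. -/
structure Fv (P : Subgroup G) (p : Fin 5 → G) : Prop where
  ne : ∀ i, p i ≠ 1
  sq : ∀ i, p i * p i = 1
  comm : ∀ i j, p i * p j = p j * p i
  inj : Function.Injective p
  prod : p 0 * p 1 * (p 2 * p 3) = p 4
  perm : ∀ g ∈ P, ∃ σ : Equiv.Perm (Fin 5), ∀ i, g * p i * g⁻¹ = p (σ i)
  full : ∀ σ : Equiv.Perm (Fin 5), ∃ g ∈ P, ∀ i, g * p i * g⁻¹ = p (σ i)

namespace Fv

variable {P : Subgroup G} {p : Fin 5 → G} (h : Fv P p)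
include h

theorem prod' (σ : Equiv.Perm (Fin 5)) : p (σ 0) * p (σ 1) * (p (σ 2) * p (σ 3)) = p (σ 4) := by
  obtain ⟨g, -, hg⟩ := h.full σ
  rw [← hg 0, ← hg 1, ← hg 2, ← hg 3, ← hg 4, ← cm, ← cm, ← cm, h.prod]

theorem relabel (ρ : Equiv.Perm (Fin 5)) : Fv P (p ∘ ρ) where
  ne i := h.ne _
  sq i := h.sq _
  comm i j := h.comm _ _
  inj := h.inj.comp ρ.injective
  prod := h.prod' ρ
  perm g hg := by
    obtain ⟨σ, hσ⟩ := h.perm g hg
    refine ⟨ρ⁻¹ * σ * ρ, fun i => ?_⟩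
    simp only [Function.comp_apply, hσ, Equiv.Perm.mul_apply]
    rw [show ρ (ρ⁻¹ (σ (ρ i))) = σ (ρ i) from ρ.apply_symm_apply _]
  full σ := by
    obtain ⟨g, hg, h1⟩ := h.full (ρ * σ * ρ⁻¹)
    refine ⟨g, hg, fun i => ?_⟩
    simp only [Function.comp_apply, h1, Equiv.Perm.mul_apply]
    rw [show ρ⁻¹ (ρ i) = i from ρ.symm_apply_apply _]

theorem mul_ne_one {i j : Fin 5} (hij : i ≠ j) : p i * p j ≠ 1 := fun e => by
  refine hij (h.inj ?_)
  calc p i = p i * p j * p j := by rw [mul_assoc, h.sq, mul_one]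
    _ = p j := by rw [e, one_mul]

omit h in
theorem exists_fourth : ∀ i j k : Fin 5, ∃ l : Fin 5, l ≠ i ∧ l ≠ j ∧ l ≠ k := by decide

theorem mul_ne {i j : Fin 5} (hij : i ≠ j) (k : Fin 5) : p i * p j ≠ p k := by
  intro e
  have hki : k ≠ i := by
    rintro rfl
    exact h.ne j (mul_left_cancel (e.trans (mul_one _).symm))
  have hkj : k ≠ j := by
    rintro rfl
    exact h.ne i (mul_right_cancel (e.trans (one_mul _).symm))
  obtain ⟨l, hl1, hl2, hl3⟩ := exists_fourth i j k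
  obtain ⟨g, -, hg⟩ := h.full (Equiv.swap k l)
  have h1 := hg k
  rw [← e, cm, hg i, hg j, Equiv.swap_apply_of_ne_of_ne hki.symm hl1.symm,
    Equiv.swap_apply_of_ne_of_ne hkj.symm hl2.symm, e, Equiv.swap_apply_left] at h1
  exact hl3 (h.inj h1).symm

theorem pinv (i : Fin 5) : (p i)⁻¹ = p i := inv_eq_of_mul_eq_one_left (h.sq i)

omit h in
/-- two elements acting in the same way -/
theorem mem_of_same {M : Subgroup G} (hM : centralizer ({p 4} : Set G) ≤ M) {g g' : G}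
    (hg' : g' ∈ M) (e : ∀ i, g * p i * g⁻¹ = g' * p i * g'⁻¹) : g ∈ M := by
  have h1 : g'⁻¹ * g ∈ M := by
    apply hM
    rw [mem_cent]
    have := e 4
    calc g'⁻¹ * g * p 4 * (g'⁻¹ * g)⁻¹ = g'⁻¹ * (g * p 4 * g⁻¹) * g' := by group
      _ = p 4 := by rw [this]; group
  have := mul_mem hg' h1
  rwa [mul_inv_cancel_left] at this

end Fv

/-- Standard position. -/
structure Std (S P : Subgroup G) (p : Fin 5 → G) : Prop extends Fv P p where
  le : S ≤ P
  mem : ∀ i, p i ∈ S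
  fix : ∀ x ∈ S, x * p 4 * x⁻¹ = p 4
  part : ∀ x ∈ S, x * (p 0 * p 1) * x⁻¹ = p 0 * p 1 ∨ x * (p 0 * p 1) * x⁻¹ = p 2 * p 3
  tau : ∃ x ∈ S, x * (p 0 * p 1) * x⁻¹ = p 2 * p 3
  zc4 : ∀ x ∈ zc S, x = 1 ∨ x = p 4

/-- `n` -/
abbrev nn (p : Fin 5 → G) : G := p 0 * p 1

/-- `a` -/
abbrev aa (p : Fin 5 → G) : G := p 2 * p 3

namespace Std

variable {S P : Subgroup G} {p : Fin 5 → G} (h : Std S P p)
include h

theorem na : nn p * aa p = p 4 := h.prod

theorem nsq : nn p * nn p = 1 := by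
  rw [nn, mul_assoc, ← mul_assoc (p 1), h.comm 1 0, mul_assoc (p 0), h.sq, mul_one, h.sq]

theorem asq : aa p * aa p = 1 := by
  rw [aa, mul_assoc, ← mul_assoc (p 3), h.comm 3 2, mul_assoc (p 2), h.sq, mul_one, h.sq]

theorem a_eq : aa p = nn p * p 4 := by
  rw [← h.na, ← mul_assoc, h.nsq, one_mul]

theorem n_ne_one : nn p ≠ 1 := h.mul_ne_one (by decide)

theorem n_ne_four : nn p ≠ p 4 := h.mul_ne (by decide) 4

theorem a_ne_one : aa p ≠ 1 := h.mul_ne_one (by decide)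

theorem a_ne_four : aa p ≠ p 4 := h.mul_ne (by decide) 4

theorem n_ne_a : nn p ≠ aa p := fun e => h.ne 4 (by rw [← h.na, ← e, h.nsq])

theorem ns : nn p * p 4 = p 4 * nn p := by
  rw [nn, mul_assoc, h.comm 1 4, ← mul_assoc, h.comm 0 4, mul_assoc]

theorem an : aa p * nn p = p 4 := by
  rw [h.a_eq, h.ns, mul_assoc, h.nsq, mul_one]

theorem s_eq_conj {x : G} (hx : x ∈ S) (e : x * nn p * x⁻¹ = aa p) : x * aa p * x⁻¹ = nn p := by
  rw [h.a_eq, cm, e, h.fix x hx, h.a_eq, mul_assoc, h.sq, mul_one]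

theorem n_mem : nn p ∈ S := mul_mem (h.mem 0) (h.mem 1)

theorem a_mem : aa p ∈ S := mul_mem (h.mem 2) (h.mem 3)

/-- `T = C_S(n)` -/
def T (S : Subgroup G) (p : Fin 5 → G) : Subgroup G := S ⊓ centralizer ({nn p} : Set G)

omit h in
theorem mem_T {x : G} : x ∈ T S p ↔ x ∈ S ∧ x * nn p * x⁻¹ = nn p := by
  rw [T, mem_inf, mem_cent]

omit h in
theorem T_le : T S p ≤ S := inf_le_left

theorem T_a {x : G} (hx : x ∈ T S p) : x * aa p * x⁻¹ = aa p := by
  obtain ⟨h1, h2⟩ := mem_T.1 hx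
  rw [h.a_eq, cm, h2, h.fix x h1]

theorem le_norm_T : S ≤ normalizer (T S p : Set G) := by
  have key : ∀ x ∈ S, ∀ y ∈ T S p, x * y * x⁻¹ ∈ T S p := by
    intro x hx y hy
    obtain ⟨h1, h2⟩ := mem_T.1 hy
    refine mem_T.2 ⟨mul_mem (mul_mem hx h1) (inv_mem hx), ?_⟩
    have hx' := inv_mem hx
    have h3 : x⁻¹ * nn p * x = nn p ∨ x⁻¹ * nn p * x = aa p := by
      have := h.part x⁻¹ hx'
      rwa [inv_inv] at this
    have h4 : y * (x⁻¹ * nn p * x) * y⁻¹ = x⁻¹ * nn p * x := by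
      rcases h3 with h3 | h3
      · rw [h3, h2]
      · rw [h3, h.T_a hy]
    calc x * y * x⁻¹ * nn p * (x * y * x⁻¹)⁻¹ = x * (y * (x⁻¹ * nn p * x) * y⁻¹) * x⁻¹ := by group
      _ = nn p := by rw [h4]; group
  intro x hx
  rw [mem_normalizer_iff]
  refine fun y => ⟨key x hx y, fun hy => ?_⟩
  have := key x⁻¹ (inv_mem hx) _ hy
  have e : x⁻¹ * (x * y * x⁻¹) * x⁻¹⁻¹ = y := by group
  rwa [e] at this

theorem two_T {x y : G} (hx : x ∈ S) (hy : y ∈ S) (hx' : x ∉ T S p) (hy' : y ∉ T S p) : x⁻¹ * y ∈ T S p := by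
  have h1 : x * nn p * x⁻¹ = aa p := (h.part x hx).resolve_left fun e => hx' (mem_T.2 ⟨hx, e⟩)
  have h2 : y * nn p * y⁻¹ = aa p := (h.part y hy).resolve_left fun e => hy' (mem_T.2 ⟨hy, e⟩)
  refine mem_T.2 ⟨mul_mem (inv_mem hx) hy, ?_⟩
  calc x⁻¹ * y * nn p * (x⁻¹ * y)⁻¹ = x⁻¹ * (y * nn p * y⁻¹) * x := by group
    _ = x⁻¹ * (x * nn p * x⁻¹) * x := by rw [h1, h2]
    _ = nn p := by group

theorem card_S [Finite G] : Nat.card S = 2 * Nat.card (T S p) := by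
  have e : Nat.card ((T S p).subgroupOf S) = Nat.card (T S p) := Nat.card_congr (subgroupOfEquivOfLe T_le).toEquiv
  have h1 := card_mul_index ((T S p).subgroupOf S)
  obtain ⟨τ, hτ, h2⟩ := h.tau
  have h3 : ((T S p).subgroupOf S).index = 2 := by
    rw [index_eq_two_iff]
    refine ⟨⟨τ, hτ⟩⁻¹, fun b => ?_⟩
    have hτT : τ ∉ T S p := fun h3 => h.n_ne_a ((mem_T.1 h3).2.symm.trans h2)
    rw [mem_subgroupOf, mem_subgroupOf]
    change Xor ((b : G) * τ⁻¹ ∈ T S p) ((b : G) ∈ T S p)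
    by_cases hb : (b : G) ∈ T S p
    · refine Or.inr ⟨hb, fun h4 => hτT ?_⟩
      have := mul_mem (inv_mem h4) hb
      simpa using this
    · refine Or.inl ⟨?_, hb⟩
      have h5 := h.two_T (inv_mem b.2) (inv_mem hτ) (fun h6 => hb ((inv_mem_iff).1 h6))
        (fun h6 => hτT ((inv_mem_iff).1 h6))
      rwa [inv_inv] at h5
  rw [e, h3] at h1
  omega

/-- `Ω₁(Z(T)) = {1, n, a, s}` -/
theorem mem_zcT {x : G} : x ∈ zc (T S p) ↔ x = 1 ∨ x = nn p ∨ x = aa p ∨ x = p 4 := by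
  constructor
  · intro hx
    obtain ⟨h1, h2, h3⟩ := mem_zc.1 hx
    obtain ⟨τ, hτ, h4⟩ := h.tau
    have hτT : τ ∉ T S p := fun h3 => h.n_ne_a ((mem_T.1 h3).2.symm.trans h4)
    -- `[x, τ]` is in `Ω₁(Z(S))`
    have key : ∀ y ∈ zc (T S p), τ * y * τ⁻¹ = y → y = 1 ∨ y = p 4 := by
      intro y hy e
      apply h.zc4
      obtain ⟨k1, k2, k3⟩ := mem_zc.1 hy
      refine mem_zc.2 ⟨T_le k1, fun b hb => ?_, k3⟩
      by_cases hbT : b ∈ T S p
      · exact k2 b hbT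
      · have h5 := h.two_T hτ hb hτT hbT
        have h6 := k2 _ h5
        rw [comm_iff] at e
        calc b * y = τ * (τ⁻¹ * b * y) := by group
          _ = τ * (y * (τ⁻¹ * b)) := by rw [h6]
          _ = (τ * y) * (τ⁻¹ * b) := by group
          _ = y * b := by rw [e]; group
    have hτn : ∀ y ∈ zc (T S p), τ * y * τ⁻¹ ∈ zc (T S p) := fun y hy =>
      (mem_normalizer_iff.1 (normalizer_le_normalizer_zc _ (h.le_norm_T hτ)) y).1 hy
    have hsq : τ * τ ∈ T S p := by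
      have := h.two_T (inv_mem hτ) hτ (fun h6 => hτT ((inv_mem_iff).1 h6)) hτT
      rwa [inv_inv] at this
    have hc : ∀ y ∈ zc (T S p), τ * (y * (τ * y * τ⁻¹)) * τ⁻¹ = y * (τ * y * τ⁻¹) := by
      intro y hy
      obtain ⟨k1, k2, k3⟩ := mem_zc.1 hy
      have h5 : τ * (τ * y * τ⁻¹) * τ⁻¹ = y := by
        rw [cc, comm_iff]
        exact k2 _ hsq
      rw [cm, h5]
      exact zc_comm _ _ (hτn y hy) _ hy
    have h5 := key _ (mul_mem hx (hτn x hx)) (hc x hx)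
    have hsx : x * x = 1 := by rw [← sq]; exact h3
    have hn : nn p ∈ zc (T S p) := mem_zc.2 ⟨mem_T.2 ⟨h.n_mem, by group⟩,
      fun b hb => comm_iff.1 (mem_T.1 hb).2, by rw [sq]; exact h.nsq⟩
    rcases h5 with h5 | h5
    · have h6 : τ * x * τ⁻¹ = x := by
        calc τ * x * τ⁻¹ = x * (x * (τ * x * τ⁻¹)) := by rw [← mul_assoc, hsx, one_mul]
          _ = x := by rw [h5, mul_one]
      rcases key x hx h6 with h7 | h7
      · exact Or.inl h7
      · exact Or.inr (Or.inr (Or.inr h7))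
    · have h6 : τ * (x * nn p) * τ⁻¹ = x * nn p := by
        have h8 : τ * x * τ⁻¹ = x * p 4 := by
          calc τ * x * τ⁻¹ = x * (x * (τ * x * τ⁻¹)) := by rw [← mul_assoc, hsx, one_mul]
            _ = x * p 4 := by rw [h5]
        rw [cm, h8, h4, mul_assoc]
        change x * (p 4 * aa p) = x * nn p
        rw [h.a_eq, ← mul_assoc (p 4), ← h.ns, mul_assoc (nn p), h.sq, mul_one]
      have hxe : x = x * nn p * nn p := by rw [mul_assoc, h.nsq, mul_one]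
      rcases key _ (mul_mem hx hn) h6 with h7 | h7
      · right; left
        rw [h7, one_mul] at hxe
        exact hxe
      · right; right; left
        rw [h7, ← h.ns, ← h.a_eq] at hxe
        exact hxe
  · have h0 : ∀ y : G, (y ∈ S) → (∀ b ∈ T S p, b * y * b⁻¹ = y) → nn p * y * (nn p)⁻¹ = y → y * y = 1 → y ∈ zc (T S p) := by
      intro y h1 h2 h3 h4
      refine mem_zc.2 ⟨mem_T.2 ⟨h1, ?_⟩, fun b hb => comm_iff.1 (h2 b hb), by rw [sq]; exact h4⟩
      rw [comm_iff] at h3 ⊢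
      exact h3.symm
    rintro (rfl | rfl | rfl | rfl)
    · exact one_mem _
    · exact h0 _ h.n_mem (fun b hb => (mem_T.1 hb).2) (by group) h.nsq
    · refine h0 _ h.a_mem (fun b hb => h.T_a hb) ?_ h.asq
      rw [comm_iff, h.na, h.an]
    · refine h0 _ (h.mem 4) (fun b hb => h.fix b (T_le hb)) ?_ (h.sq 4)
      rw [comm_iff, h.ns]

end Std

end Cfsg.Agent.Omega.NTwo

end

section


/-!
# Exit N2: the minimal parabolic `P'` and the nonlocal pair
-/

set_option autoImplicit false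

namespace Cfsg.Agent.Omega.NTwo

open Subgroup Cfsg Cfsg.Agent.ZN Cfsg.Agent.MinSimple.VModule Pointwise
open Cfsg.Agent.Omega.MinPar (IsPar IsParS IsLoc NonLoc isLoc_of_le_normalizer)

universe u

variable {G : Type u} [Group G]

/-! ### Sylow -/

/-- a 2-subgroup of `C`, `C` containing a Sylow subgroup `T₀` of `G`, lies in a `C`-conjugate of `T₀` -/
theorem exists_conj_le' [Finite G] (T₀ : Sylow 2 G) {C T : Subgroup G} (hC : (T₀ : Subgroup G) ≤ C) (hT : IsPGroup 2 T)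
    (hTC : T ≤ C) : ∃ c ∈ C, T ≤ ((c • T₀ : Sylow 2 G) : Subgroup G) ∧ ((c • T₀ : Sylow 2 G) : Subgroup G) ≤ C := by
  have : Fact (Nat.Prime 2) := ⟨Nat.prime_two⟩
  have h1 : IsPGroup 2 (T.subgroupOf C) := hT.comap_of_injective _ C.subtype_injective
  obtain ⟨Q, hQ⟩ := h1.exists_le_sylow
  obtain ⟨c, hc⟩ := MulAction.exists_smul_eq C (T₀.subtype hC) Q
  refine ⟨(c : G), c.2, ?_, ?_⟩
  · intro x hx
    have h2 : (⟨x, hTC hx⟩ : C) ∈ (Q : Subgroup C) := hQ (mem_subgroupOf.2 hx)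
    rw [← hc, Sylow.coe_subgroup_smul, mem_pointwise_smul_iff_inv_smul_mem] at h2
    rw [Sylow.coe_subgroup_smul, mem_pointwise_smul_iff_inv_smul_mem]
    exact h2
  · intro x hx
    rw [Sylow.coe_subgroup_smul, mem_pointwise_smul_iff_inv_smul_mem] at hx
    have h3 := hC hx
    have h4 : MulAut.conj ((c : G))⁻¹ x ∈ C := by
      have : (MulAut.conj (c : G))⁻¹ • x = MulAut.conj ((c : G))⁻¹ x := by rw [map_inv]; rfl
      rwa [this] at h3
    rw [MulAut.conj_apply, inv_inv] at h4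
    have h5 := mul_mem (mul_mem c.2 h4) (inv_mem c.2)
    have e : (c : G) * ((c : G)⁻¹ * x * c) * (c : G)⁻¹ = x := by group
    rwa [e] at h5

theorem exists_conj_le [Finite G] (T₀ : Sylow 2 G) {C T : Subgroup G} (hC : (T₀ : Subgroup G) ≤ C) (hT : IsPGroup 2 T)
    (hTC : T ≤ C) : ∃ T₁ : Sylow 2 G, T ≤ (T₁ : Subgroup G) ∧ (T₁ : Subgroup G) ≤ C := by
  obtain ⟨c, -, h1, h2⟩ := exists_conj_le' T₀ hC hT hTC
  exact ⟨_, h1, h2⟩

theorem mem_smul {g x : G} {T₀ : Sylow 2 G} : x ∈ ((g • T₀ : Sylow 2 G) : Subgroup G) ↔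
    g⁻¹ * x * g ∈ (T₀ : Subgroup G) := by
  rw [Sylow.coe_subgroup_smul, mem_pointwise_smul_iff_inv_smul_mem]
  have : (MulAut.conj g)⁻¹ • x = g⁻¹ * x * g := by
    rw [← map_inv]
    change MulAut.conj g⁻¹ x = _
    rw [MulAut.conj_apply, inv_inv]
  rw [this]

/-- a 2-element normalising `V` is `N(V)`-conjugate into `S ≤ N(V)` -/
theorem exists_conj_mem [Finite G] (S : Sylow 2 G) {C : Subgroup G} (hC : (S : Subgroup G) ≤ C) {t : G} (ht : t ∈ C)
    (h2 : IsPGroup 2 (zpowers t)) : ∃ c ∈ C, c * t * c⁻¹ ∈ (S : Subgroup G) := by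
  obtain ⟨c, hc, h1, -⟩ := exists_conj_le' S hC h2 (zpowers_le.2 ht)
  refine ⟨c⁻¹, inv_mem hc, ?_⟩
  rw [inv_inv]
  exact mem_smul.1 (h1 (mem_zpowers t))

/-- `K ⊴ C`, `K² ≤ N ⊴ C`, `S ≤ C` Sylow: `K ≤ S N`. -/
theorem exists_mul [Finite G] (S : Sylow 2 G) {C N K : Subgroup G} (hS : (S : Subgroup G) ≤ C)
    (hN : C ≤ normalizer (N : Set G)) (hKC : K ≤ C) (hK : C ≤ normalizer (K : Set G)) (hsq : ∀ k ∈ K, k * k ∈ N) :
    ∀ k ∈ K, ∃ x ∈ (S : Subgroup G), x⁻¹ * k ∈ N := by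
  have : Fact (Nat.Prime 2) := ⟨Nat.prime_two⟩
  have : (N.subgroupOf C).Normal := normal_subgroupOf_of_le_normalizer hN
  obtain ⟨π, hπ⟩ : ∃ π : C →* C ⧸ N.subgroupOf C, π = QuotientGroup.mk' _ := ⟨_, rfl⟩
  have hs : Function.Surjective π := hπ ▸ QuotientGroup.mk'_surjective _
  obtain ⟨SQ, hSQ⟩ : ∃ SQ : Sylow 2 (C ⧸ N.subgroupOf C), SQ = (S.subtype hS).mapSurjective hs := ⟨_, rfl⟩
  have hSQ' : (SQ : Subgroup (C ⧸ N.subgroupOf C)) = ((S : Subgroup G).subgroupOf C).map π := by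
    rw [hSQ, Sylow.coe_mapSurjective]
    rfl
  have h1 : IsPGroup 2 ((K.subgroupOf C).map π) := by
    intro y
    obtain ⟨y, k, hk, rfl⟩ := y
    refine ⟨1, Subtype.ext ?_⟩
    have h2 : π (k * k) = 1 := by
      rw [hπ, QuotientGroup.mk'_apply, QuotientGroup.eq_one_iff]
      exact hsq k (mem_subgroupOf.1 hk)
    rw [map_mul] at h2
    simpa [pow_two] using h2
  have h2 : ((K.subgroupOf C).map π).Normal := by
    have : (K.subgroupOf C).Normal := normal_subgroupOf_of_le_normalizer hK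
    exact this.map π hs
  have h3 : (K.subgroupOf C).map π ≤ SQ := by
    have h4 : IsPGroup 2 ((SQ : Subgroup (C ⧸ N.subgroupOf C)) ⊔ (K.subgroupOf C).map π : Subgroup _) :=
      SQ.isPGroup'.to_sup_of_normal_right h1
    have h5 := SQ.is_maximal' h4 le_sup_left
    exact le_sup_right.trans h5.le
  intro k hk
  have h4 : π ⟨k, hKC hk⟩ ∈ (SQ : Subgroup (C ⧸ N.subgroupOf C)) := h3 ⟨_, mem_subgroupOf.2 hk, rfl⟩
  rw [hSQ'] at h4
  obtain ⟨x, hx, h5⟩ := h4
  refine ⟨x, mem_subgroupOf.1 hx, ?_⟩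
  have h6 : π (x⁻¹ * ⟨k, hKC hk⟩) = 1 := by
    rw [map_mul, map_inv, h5, inv_mul_cancel]
  rw [hπ, QuotientGroup.mk'_apply, QuotientGroup.eq_one_iff] at h6
  exact mem_subgroupOf.1 h6

/-! ### The minimal parabolic `P'` -/

/-- a Sylow subgroup of `C(n)` over `T` does not centralise `s` -/
theorem not_cent [Finite G] (S : Sylow 2 G) {P : Subgroup G} {p : Fin 5 → G} (h : Std (S : Subgroup G) P p)
    (T₁ : Sylow 2 G) (hTT₁ : Std.T (S : Subgroup G) p ≤ T₁) (hT₁ : (T₁ : Subgroup G) ≤ centralizer ({nn p} : Set G)) :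
    ¬ ∀ x ∈ (T₁ : Subgroup G), x * p 4 * x⁻¹ = p 4 := by
  intro h1
  have hp2 : Fact (Nat.Prime 2) := ⟨Nat.prime_two⟩
  have h2 : p 4 ∈ zc (T₁ : Subgroup G) :=
    mem_zc.2 ⟨hTT₁ (zc_le _ (h.mem_zcT.2 (Or.inr (Or.inr (Or.inr rfl))))), fun b hb => comm_iff.1 (h1 b hb),
      by rw [sq]; exact h.sq 4⟩
  have h3 : nn p ∈ zc (T₁ : Subgroup G) :=
    mem_zc.2 ⟨hTT₁ (zc_le _ (h.mem_zcT.2 (Or.inr (Or.inl rfl)))), fun b hb => comm_iff.1 (mem_cent.1 (hT₁ hb)),
      by rw [sq]; exact h.nsq⟩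
  obtain ⟨g, hg⟩ := MulAction.exists_smul_eq G T₁ S
  have h4 : ∀ y ∈ zc (T₁ : Subgroup G), g * y * g⁻¹ ∈ zc (S : Subgroup G) := by
    intro y hy
    obtain ⟨k1, k2, k3⟩ := mem_zc.1 hy
    have hSg : ∀ b, b ∈ (S : Subgroup G) ↔ g⁻¹ * b * g ∈ (T₁ : Subgroup G) := by
      intro b
      rw [← hg]
      exact mem_smul
    refine mem_zc.2 ⟨?_, fun b hb => ?_, ?_⟩
    · rw [hSg]
      have e : g⁻¹ * (g * y * g⁻¹) * g = y := by group
      rwa [e]
    · have h5 := k2 _ ((hSg b).1 hb)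
      calc b * (g * y * g⁻¹) = g * (g⁻¹ * b * g * y) * g⁻¹ := by group
        _ = g * (y * (g⁻¹ * b * g)) * g⁻¹ := by rw [h5]
        _ = g * y * g⁻¹ * b := by group
    · rw [conj_pow, k3, mul_one, mul_inv_cancel]
  have h5 : ∀ y ∈ zc (T₁ : Subgroup G), y ≠ 1 → g * y * g⁻¹ = p 4 := by
    intro y hy hy1
    refine (h.zc4 _ (h4 y hy)).resolve_left fun e => hy1 ?_
    calc y = g⁻¹ * (g * y * g⁻¹) * g := by group
      _ = 1 := by rw [e]; group
  have h6 := h5 _ h3 h.n_ne_one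
  have h7 := h5 _ h2 (h.ne 4)
  exact h.n_ne_four (conj_inj (h6.trans h7.symm))

/-- the Klein group `{1, n, a, s}` -/
theorem exists_par [Finite G] (S : Sylow 2 G) {P : Subgroup G} {p : Fin 5 → G} (h : Std (S : Subgroup G) P p)
    (T₀ : Sylow 2 G) (hT₀ : ∀ x ∈ (T₀ : Subgroup G), x * nn p * x⁻¹ = nn p) :
    ∃ P' : Subgroup G, IsParS (S : Subgroup G) P' ∧ (∃ y ∈ P', y * p 4 * y⁻¹ = nn p) ∧
      (∀ x, x ∈ zl (S : Subgroup G) P' ↔ x = 1 ∨ x = nn p ∨ x = aa p ∨ x = p 4) ∧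
      P' ≤ normalizer (Std.T (S : Subgroup G) p : Set G) := by
  have hp2 : Fact (Nat.Prime 2) := ⟨Nat.prime_two⟩
  have hTn : Std.T (S : Subgroup G) p ≤ centralizer ({nn p} : Set G) := inf_le_right
  have hT2 : IsPGroup 2 (Std.T (S : Subgroup G) p) := S.isPGroup'.to_le Std.T_le
  obtain ⟨T₁, hTT₁, hT₁⟩ := exists_conj_le T₀ (fun x hx => mem_cent.2 (hT₀ x hx)) hT2 hTn
  -- `T` has index 2 in `T₁`
  have hcard : Nat.card (T₁ : Subgroup G) = 2 * Nat.card (Std.T (S : Subgroup G) p) := by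
    rw [← h.card_S]
    exact Nat.card_congr (Sylow.equiv T₁ S).toEquiv
  have hT₁n : (T₁ : Subgroup G) ≤ normalizer (Std.T (S : Subgroup G) p : Set G) := by
    have e : Nat.card ((Std.T (S : Subgroup G) p).subgroupOf (T₁ : Subgroup G)) = Nat.card (Std.T (S : Subgroup G) p) :=
      Nat.card_congr (subgroupOfEquivOfLe hTT₁).toEquiv
    have h1 := card_mul_index ((Std.T (S : Subgroup G) p).subgroupOf (T₁ : Subgroup G))
    rw [e, hcard] at h1
    have h2 : ((Std.T (S : Subgroup G) p).subgroupOf (T₁ : Subgroup G)).index = 2 := by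
      have h3 : 0 < Nat.card (Std.T (S : Subgroup G) p) := Nat.card_pos
      rw [mul_comm] at h1
      exact Nat.eq_of_mul_eq_mul_right h3 h1
    have h3 := normal_of_index_eq_two h2
    exact (normal_subgroupOf_iff_le_normalizer hTT₁).1 h3
  obtain ⟨X, hX⟩ : ∃ X, X = (S : Subgroup G) ⊔ T₁ := ⟨_, rfl⟩
  have hSX : (S : Subgroup G) ≤ X := hX ▸ le_sup_left
  have hTX : (T₁ : Subgroup G) ≤ X := hX ▸ le_sup_right
  have hXn : X ≤ normalizer (Std.T (S : Subgroup G) p : Set G) := hX ▸ sup_le h.le_norm_T hT₁n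
  have hT1 : Std.T (S : Subgroup G) p ≠ ⊥ := fun e => by
    have h1 : nn p ∈ Std.T (S : Subgroup G) p := Std.mem_T.2 ⟨h.n_mem, by group⟩
    rw [e, mem_bot] at h1
    exact h.n_ne_one h1
  have hloc : IsLoc (S : Subgroup G) X := isLoc_of_le_normalizer S hSX hT2 hT1 hXn
  have hnot : ¬ X ≤ normalizer (zc (S : Subgroup G) : Set G) := by
    intro hX1
    -- `T₁` centralises `s`
    have hs : p 4 ∈ zc (S : Subgroup G) :=
      mem_zc.2 ⟨h.mem 4, fun b hb => comm_iff.1 (h.fix b hb), by rw [sq]; exact h.sq 4⟩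
    refine not_cent S h T₁ hTT₁ hT₁ fun x hx => ?_
    have h2 := (mem_normalizer_iff.1 (hX1 (hTX hx)) _).1 hs
    rcases h.zc4 _ h2 with h3 | h3
    · exfalso
      refine h.ne 4 ?_
      calc p 4 = x⁻¹ * (x * p 4 * x⁻¹) * x := by group
        _ = 1 := by rw [h3]; group
    · exact h3
  obtain ⟨P', hP', hP'X, hP'n⟩ := hloc.exists_not_le S
    (inf_le_right.trans (normalizer_le_normalizer_zc _)) hnot
  have hPS : IsParS (S : Subgroup G) P' := ⟨hP', hP'n⟩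
  have hP'T : P' ≤ normalizer (Std.T (S : Subgroup G) p : Set G) := hP'X.trans hXn
  have hzcT : (zc (S : Subgroup G)) ≤ zc (Std.T (S : Subgroup G) p) := by
    intro x hx
    rcases h.zc4 x hx with rfl | rfl
    · exact one_mem _
    · exact h.mem_zcT.2 (Or.inr (Or.inr (Or.inr rfl)))
  have hle : zl (S : Subgroup G) P' ≤ zc (Std.T (S : Subgroup G) p) :=
    zl_le hzcT (hP'T.trans (normalizer_le_normalizer_zc _))
  have hs : p 4 ∈ zc (S : Subgroup G) :=
    mem_zc.2 ⟨h.mem 4, fun b hb => comm_iff.1 (h.fix b hb), by rw [sq]; exact h.sq 4⟩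
  have hsz : p 4 ∈ zl (S : Subgroup G) P' := zc_le_zl _ _ hs
  -- an element of `P'` moving `s`
  obtain ⟨y, hy, hys⟩ : ∃ y ∈ P', y * p 4 * y⁻¹ ≠ p 4 := by
    by_contra hcon
    push Not at hcon
    refine hP'n fun y hy => ?_
    rw [mem_normalizer_iff]
    intro x
    constructor
    · intro hx
      rcases h.zc4 x hx with rfl | rfl
      · simp
      · rw [hcon y hy]; exact hs
    · intro hx
      have hx' : y * x * y⁻¹ = 1 ∨ y * x * y⁻¹ = p 4 := h.zc4 _ hx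
      rcases hx' with h1 | h1
      · have : x = 1 := by
          calc x = y⁻¹ * (y * x * y⁻¹) * y := by group
            _ = 1 := by rw [h1]; group
        rw [this]; exact one_mem _
      · rw [← hcon y hy] at h1
        rw [conj_inj h1]; exact hs
  have hyz : y * p 4 * y⁻¹ ∈ zl (S : Subgroup G) P' := (mem_normalizer_iff.1 (le_normalizer_zl _ _ hy) _).1 hsz
  obtain ⟨y', hy', hy'n⟩ : ∃ y ∈ P', y * p 4 * y⁻¹ = nn p := by
    rcases h.mem_zcT.1 (hle hyz) with h1 | h1 | h1 | h1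
    · exfalso
      refine h.ne 4 ?_
      calc p 4 = y⁻¹ * (y * p 4 * y⁻¹) * y := by group
        _ = 1 := by rw [h1]; group
    · exact ⟨y, hy, h1⟩
    · obtain ⟨τ, hτ, h2⟩ := h.tau
      refine ⟨τ * y, mul_mem (hP'.le hτ) hy, ?_⟩
      rw [← cc, h1]
      exact h.s_eq_conj hτ h2
    · exact absurd h1 hys
  have hnz : nn p ∈ zl (S : Subgroup G) P' := hy'n ▸ (mem_normalizer_iff.1 (le_normalizer_zl _ _ hy') _).1 hsz
  refine ⟨P', hPS, ⟨y', hy', hy'n⟩, fun x => ⟨fun hx => h.mem_zcT.1 (hle hx), ?_⟩, hP'T⟩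
  rintro (rfl | rfl | rfl | rfl)
  · exact one_mem _
  · exact hnz
  · rw [h.a_eq]; exact mul_mem hnz hsz
  · exact hsz

/-! ### The nonlocal pair -/

/-- permutations of five points fixing `4`, or stabilising `{0, 1}`, generate everything -/
theorem perm_gen (E : Set (Equiv.Perm (Fin 5))) (hmul : ∀ σ ∈ E, ∀ τ ∈ E, σ * τ ∈ E)
    (h1 : ∀ σ : Equiv.Perm (Fin 5), σ 4 = 4 → σ ∈ E)
    (h2 : Equiv.swap (2 : Fin 5) 4 ∈ E) : ∀ σ, σ ∈ E := by
  have key : ∀ σ : Equiv.Perm (Fin 5), σ 4 ≠ 4 → ∃ α β : Equiv.Perm (Fin 5), α 4 = 4 ∧ β 4 = 4 ∧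
      σ = α * (Equiv.swap 2 4 * β) := by
    intro σ hσ
    -- `α` maps `2` to `σ 4`
    have hα : (Equiv.swap 2 (σ 4) : Equiv.Perm (Fin 5)) 4 = 4 :=
      Equiv.swap_apply_of_ne_of_ne (by decide) hσ.symm
    refine ⟨Equiv.swap 2 (σ 4), Equiv.swap 2 4 * (Equiv.swap 2 (σ 4) * σ), hα, ?_, ?_⟩
    · simp
    · rw [← mul_assoc (Equiv.swap 2 4), Equiv.swap_mul_self, one_mul, ← mul_assoc, Equiv.swap_mul_self, one_mul]
  intro σ
  by_cases h : σ 4 = 4
  · exact h1 σ h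
  · obtain ⟨α, β, hα, hβ, rfl⟩ := key σ h
    exact hmul _ (h1 α hα) _ (hmul _ h2 _ (h1 β hβ))

/-- **The core of exit N2.** -/
theorem nonLoc [Finite G] (hG : IsCharacteristicTwoType G) (S : Sylow 2 G) {P : Subgroup G} {p : Fin 5 → G}
    (h : Std (S : Subgroup G) P p) {P' : Subgroup G} (hSP' : (S : Subgroup G) ≤ P')
    (hP' : ∃ y ∈ P', y * p 4 * y⁻¹ = nn p) (T₀ : Sylow 2 G)
    (hT₀ : ∀ x ∈ (T₀ : Subgroup G), x * nn p * x⁻¹ = nn p) {t : G} (ht0 : t * p 0 * t⁻¹ = p 1)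
    (htn : t * nn p * t⁻¹ = nn p)
    (htQ : ∀ q ∈ o2 (centralizer ({nn p} : Set G)), t * q * t⁻¹ = q ∨ t * q * t⁻¹ = nn p * q) :
    NonLoc P' (centralizer ({p 4} : Set G)) := by
  intro B hB hPB hCB
  by_contra hB1
  obtain ⟨y, hy, hyn⟩ := hP'
  obtain ⟨M, hM⟩ : ∃ M : Subgroup G, M = normalizer (B : Set G) := ⟨_, rfl⟩
  rw [← hM] at hPB hCB
  have hloc : IsLoc (S : Subgroup G) M := isLoc_of_le_normalizer S (hSP'.trans hPB) hB hB1 hM.le
  -- `C(n) ≤ M`
  have hyM : y ∈ M := hPB hy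
  have hnM : centralizer ({nn p} : Set G) ≤ M := by
    intro g hg
    rw [mem_cent] at hg
    have h1 : y⁻¹ * g * y ∈ centralizer ({p 4} : Set G) := by
      rw [mem_cent]
      calc y⁻¹ * g * y * p 4 * (y⁻¹ * g * y)⁻¹ = y⁻¹ * (g * (y * p 4 * y⁻¹) * g⁻¹) * y := by group
        _ = y⁻¹ * (y * p 4 * y⁻¹) * y := by rw [hyn, hg]
        _ = p 4 := by group
    have h2 := mul_mem (mul_mem hyM (hCB h1)) (inv_mem hyM)
    have e : y * (y⁻¹ * g * y) * y⁻¹ = g := by group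
    rwa [e] at h2
  -- `P ≤ M`
  have hPM : P ≤ M := by
    have h1 : ∀ σ : Equiv.Perm (Fin 5), ∃ g ∈ M, g ∈ P ∧ ∀ i, g * p i * g⁻¹ = p (σ i) := by
      refine perm_gen {σ | ∃ g ∈ M, g ∈ P ∧ ∀ i, g * p i * g⁻¹ = p (σ i)} ?_ ?_ ?_
      · rintro σ ⟨g, hg, hgP, h1⟩ τ ⟨k, hk, hkP, h2⟩
        refine ⟨g * k, mul_mem hg hk, mul_mem hgP hkP, fun i => ?_⟩
        rw [← cc, h2, h1]
        rfl
      · intro σ hσ
        obtain ⟨g, hg, h1⟩ := h.full σ
        refine ⟨g, hCB ?_, hg, h1⟩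
        rw [mem_cent, h1, hσ]
      · obtain ⟨g, hg, h1⟩ := h.full (Equiv.swap 2 4)
        refine ⟨g, hnM ?_, hg, h1⟩
        rw [mem_cent, nn, cm, h1, h1]
        rfl
    intro g hg
    obtain ⟨σ, hσ⟩ := h.perm g hg
    obtain ⟨g', hg', -, h2⟩ := h1 σ
    exact Fv.mem_of_same hCB hg' fun i => by rw [hσ, h2]
  -- `U = ⟨s^M⟩`
  obtain ⟨U, hU⟩ : ∃ U, U = zl (S : Subgroup G) M := ⟨_, rfl⟩
  have hs : p 4 ∈ zc (S : Subgroup G) :=
    mem_zc.2 ⟨h.mem 4, fun b hb => comm_iff.1 (h.fix b hb), by rw [sq]; exact h.sq 4⟩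
  have hMU : ∀ m ∈ M, ∀ u ∈ U, m * u * m⁻¹ ∈ U := fun m hm u hu => by
    rw [hU] at hu ⊢
    exact (mem_normalizer_iff.1 (le_normalizer_zl _ _ hm) u).1 hu
  have hsU : p 4 ∈ U := hU ▸ zc_le_zl _ _ hs
  have hpU : ∀ i, p i ∈ U := by
    intro i
    obtain ⟨g, hg, h1⟩ := h.full (Equiv.swap 4 i)
    have h2 := hMU g (hPM hg) _ hsU
    rwa [h1, Equiv.swap_apply_left] at h2
  have hnU : nn p ∈ U := mul_mem (hpU 0) (hpU 1)
  have hUzc : U ≤ zc (o2 M) := hU ▸ hloc.zl_le S hG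
  have hUc : ∀ u ∈ U, ∀ v ∈ U, u * v = v * u := fun u hu v hv => zc_comm _ u (hUzc hu) v (hUzc hv)
  have hUs : ∀ u ∈ U, u * u = 1 := fun u hu => by rw [← sq]; exact zc_sq _ u (hUzc hu)
  -- `U ≤ O₂(C(n))`
  have hUQ : U ≤ o2 (centralizer ({nn p} : Set G)) :=
    (hUzc.trans (zc_le _)).trans (Cfsg.Agent.Omega.MinPar.o2_le_o2 T₀ (fun x hx => mem_cent.2 (hT₀ x hx)) hnM)
  have htM : t ∈ M := hnM (mem_cent.2 htn)
  have ht : ∀ u ∈ U, t * u * t⁻¹ = u ∨ t * u * t⁻¹ = nn p * u := fun u hu => htQ u (hUQ hu)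
  have ht1 : t * p 1 * t⁻¹ = p 0 := by
    have e : p 1 = nn p * p 0 := by
      rw [nn, h.comm 0 1, mul_assoc, h.sq, mul_one]
    rw [e, cm, htn, ht0, nn, mul_assoc, h.sq, mul_one]
  -- the functionals
  let F : G → Set (Set G) := fun x => {D | D ⊆ (U : Set G) ∧ ∃ g ∈ M, ∀ u ∈ U, (u ∈ D → g * u * g⁻¹ = x * u) ∧
    (u ∉ D → g * u * g⁻¹ = u)}
  have hF : ∀ x D, D ∈ F x ↔ D ⊆ (U : Set G) ∧ ∃ g ∈ M, ∀ u ∈ U, (u ∈ D → g * u * g⁻¹ = x * u) ∧
    (u ∉ D → g * u * g⁻¹ = u) := fun x D => Iff.rfl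
  -- conjugation
  have hconj : ∀ m ∈ M, ∀ x D, D ∈ F x → (fun v => m * v * m⁻¹) '' D ∈ F (m * x * m⁻¹) := by
    rintro m hm x D ⟨h1, g, hg, h2⟩
    refine ⟨?_, m * g * m⁻¹, mul_mem (mul_mem hm hg) (inv_mem hm), fun u hu => ?_⟩
    · rintro _ ⟨v, hv, rfl⟩
      exact hMU m hm v (h1 hv)
    · have hu' : m⁻¹ * u * m ∈ U := by
        have := hMU m⁻¹ (inv_mem hm) u hu
        rwa [inv_inv] at this
      have e : m * (m⁻¹ * u * m) * m⁻¹ = u := by group
      have h3 := h2 _ hu'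
      constructor
      · rintro ⟨v, hv, rfl⟩
        have e2 : m⁻¹ * (m * v * m⁻¹) * m = v := by group
        change m * g * m⁻¹ * (m * v * m⁻¹) * (m * g * m⁻¹)⁻¹ = m * x * m⁻¹ * (m * v * m⁻¹)
        rw [show m * g * m⁻¹ * (m * v * m⁻¹) * (m * g * m⁻¹)⁻¹ = m * (g * v * g⁻¹) * m⁻¹ by group,
          (h2 v (h1 hv)).1 hv]
        group
      · intro hn
        have h4 : m⁻¹ * u * m ∉ D := fun h5 => hn ⟨_, h5, e⟩
        calc m * g * m⁻¹ * u * (m * g * m⁻¹)⁻¹ = m * (g * (m⁻¹ * u * m) * g⁻¹) * m⁻¹ := by group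
          _ = u := by rw [h3.2 h4, e]
  have hcardle : ∀ m ∈ M, ∀ x, (F x).ncard ≤ (F (m * x * m⁻¹)).ncard := by
    intro m hm x
    have hinj : Function.Injective (fun v : G => m * v * m⁻¹) := fun v w hvw => conj_inj hvw
    refine Set.ncard_le_ncard_of_injOn (fun D => (fun v => m * v * m⁻¹) '' D) (fun D hD => hconj m hm x D hD) ?_
      (Set.toFinite _)
    intro D _ D' _ hDD
    exact hinj.image_injective hDD
  have hcardeq : ∀ m ∈ M, ∀ x, (F (m * x * m⁻¹)).ncard = (F x).ncard := by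
    intro m hm x
    refine le_antisymm ?_ (hcardle m hm x)
    have := hcardle m⁻¹ (inv_mem hm) (m * x * m⁻¹)
    have e : m⁻¹ * (m * x * m⁻¹) * m⁻¹⁻¹ = x := by group
    rwa [e] at this
  -- (4a)
  have h4a : ∀ D ∈ F (p 4), ∀ i, p i ∉ D := by
    rintro D ⟨hDU, g, hg, hgD⟩ i hi
    have hgs : g * p 4 * g⁻¹ = p 4 := by
      by_cases h1 : p 4 ∈ D
      · exfalso
        have h2 := (hgD _ hsU).1 h1
        rw [h.sq] at h2
        refine h.ne 4 ?_
        calc p 4 = g⁻¹ * (g * p 4 * g⁻¹) * g := by group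
          _ = 1 := by rw [h2]; group
      · exact (hgD _ hsU).2 h1
    -- the group `K_s`
    let K : Subgroup G :=
      { carrier := {k | k * p 4 * k⁻¹ = p 4 ∧ ∀ u ∈ U, k * u * k⁻¹ = u ∨ k * u * k⁻¹ = p 4 * u}
        one_mem' := ⟨by group, fun u _ => Or.inl (by group)⟩
        mul_mem' := by
          rintro a b ⟨ha1, ha2⟩ ⟨hb1, hb2⟩
          refine ⟨by rw [← cc, hb1, ha1], fun u hu => ?_⟩
          rw [← cc]
          rcases hb2 u hu with h1 | h1 <;> rcases ha2 u hu with h2 | h2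
          · left; rw [h1, h2]
          · right; rw [h1, h2]
          · right; rw [h1, cm, ha1, h2]
          · left; rw [h1, cm, ha1, h2, ← mul_assoc, h.sq, one_mul]
        inv_mem' := by
          rintro a ⟨ha1, ha2⟩
          have e1 : a⁻¹ * p 4 * a⁻¹⁻¹ = p 4 := by
            calc a⁻¹ * p 4 * a⁻¹⁻¹ = a⁻¹ * (a * p 4 * a⁻¹) * a := by rw [ha1]; group
              _ = p 4 := by group
          refine ⟨e1, fun u hu => ?_⟩
          rcases ha2 u hu with h1 | h1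
          · left
            calc a⁻¹ * u * a⁻¹⁻¹ = a⁻¹ * (a * u * a⁻¹) * a := by rw [h1]; group
              _ = u := by group
          · right
            have h2 : u = p 4 * (a * u * a⁻¹) := by rw [h1, ← mul_assoc, h.sq, one_mul]
            calc a⁻¹ * u * a⁻¹⁻¹ = a⁻¹ * (p 4 * (a * u * a⁻¹)) * a⁻¹⁻¹ := by rw [← h2]
              _ = (a⁻¹ * p 4 * a⁻¹⁻¹) * u := by group
              _ = p 4 * u := by rw [e1] }
    have hK : ∀ k, k ∈ K ↔ k * p 4 * k⁻¹ = p 4 ∧ ∀ u ∈ U, k * u * k⁻¹ = u ∨ k * u * k⁻¹ = p 4 * u :=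
      fun k => Iff.rfl
    have hCK : centralizer ({p 4} : Set G) ≤ normalizer (K : Set G) := by
      have key : ∀ c ∈ centralizer ({p 4} : Set G), ∀ k ∈ K, c * k * c⁻¹ ∈ K := by
        intro c hc k hk
        have hc1 := mem_cent.1 hc
        have hc2 := mem_cent.1 (inv_mem hc)
        obtain ⟨k1, k2⟩ := (hK k).1 hk
        refine (hK _).2 ⟨?_, fun u hu => ?_⟩
        · rw [← cc, ← cc, hc2, k1, hc1]
        · have hu' := hMU c⁻¹ (inv_mem (hCB hc)) u hu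
          rcases k2 _ hu' with h1 | h1
          · left; rw [← cc, ← cc, h1]; group
          · right; rw [← cc, ← cc, h1, cm, hc1]; group
      intro c hc
      rw [mem_normalizer_iff]
      refine fun k => ⟨key c hc k, fun hk => ?_⟩
      have := key c⁻¹ (inv_mem hc) _ hk
      have e : c⁻¹ * (c * k * c⁻¹) * c⁻¹⁻¹ = k := by group
      rwa [e] at this
    have hCN : centralizer ({p 4} : Set G) ≤ normalizer (centralizer (U : Set G) : Set G) := by
      have key : ∀ c ∈ centralizer ({p 4} : Set G), ∀ k ∈ centralizer (U : Set G), c * k * c⁻¹ ∈ centralizer (U : Set G) := by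
        intro c hc k hk
        rw [mem_centralizer_iff] at hk ⊢
        intro u hu
        have hu' := hMU c⁻¹ (inv_mem (hCB hc)) u hu
        have h1 := hk _ hu'
        calc u * (c * k * c⁻¹) = c * (c⁻¹ * u * c⁻¹⁻¹ * k) * c⁻¹ := by group
          _ = c * (k * (c⁻¹ * u * c⁻¹⁻¹)) * c⁻¹ := by rw [h1]
          _ = c * k * c⁻¹ * u := by group
      intro c hc
      rw [mem_normalizer_iff]
      refine fun k => ⟨key c hc k, fun hk => ?_⟩
      have := key c⁻¹ (inv_mem hc) _ hk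
      have e : c⁻¹ * (c * k * c⁻¹) * c⁻¹⁻¹ = k := by group
      rwa [e] at this
    have hgK : g ∈ K := (hK g).2 ⟨hgs, fun u hu => by
      by_cases h1 : u ∈ D
      · exact Or.inr ((hgD u hu).1 h1)
      · exact Or.inl ((hgD u hu).2 h1)⟩
    obtain ⟨x, hx, hxg⟩ := exists_mul S (C := centralizer ({p 4} : Set G)) (N := centralizer (U : Set G)) (K := K)
      (fun x hx => mem_cent.2 (h.fix x hx)) hCN (fun k hk => mem_cent.2 ((hK k).1 hk).1) hCK (by
        intro k hk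
        obtain ⟨k1, k2⟩ := (hK k).1 hk
        rw [mem_centralizer_iff]
        intro u hu
        symm
        rw [← comm_iff, ← cc]
        rcases k2 u hu with h1 | h1
        · rw [h1, h1]
        · rw [h1, cm, k1, h1, ← mul_assoc, h.sq, one_mul]) g hgK
    -- `x` acts like `g`
    have hxu : ∀ u ∈ U, x * u * x⁻¹ = g * u * g⁻¹ := by
      intro u hu
      have h1 := mem_centralizer_iff.1 hxg u hu
      calc x * u * x⁻¹ = x * (u * (x⁻¹ * g)) * g⁻¹ := by group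
        _ = x * (x⁻¹ * g * u) * g⁻¹ := by rw [h1]
        _ = g * u * g⁻¹ := by group
    obtain ⟨σ, hσ⟩ := h.perm x (h.le hx)
    have h1 := (hgD _ (hpU i)).1 hi
    rw [← hxu _ (hpU i), hσ] at h1
    have h4i : (4 : Fin 5) ≠ i := by
      rintro rfl
      rw [h.sq] at h1
      exact h.ne _ h1
    exact h.mul_ne h4i _ h1.symm
  have h4a' : ∀ j, ∀ D ∈ F (p j), ∀ i, p i ∉ D := by
    intro j D hD i hi
    obtain ⟨m, hm, h1⟩ := h.full (Equiv.swap j 4)
    have h2 := hconj m (hPM hm) _ D hD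
    rw [h1, Equiv.swap_apply_left] at h2
    refine h4a _ h2 (Equiv.swap j 4 i) ⟨p i, hi, h1 i⟩
  -- (4b)
  have h4b : F (p 0) ⊆ F (nn p) := by
    intro D hD
    have hD' := h4a' 0 D hD
    obtain ⟨hDU, g, hg, hgD⟩ := hD
    have hgp : ∀ i, g * p i * g⁻¹ = p i := fun i => (hgD _ (hpU i)).2 (hD' i)
    have hgn : g * nn p * g⁻¹ = nn p := by rw [nn, cm, hgp, hgp]
    -- `D` is invariant under multiplication by `n`
    have hDn : ∀ u ∈ U, nn p * u ∈ D ↔ u ∈ D := by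
      intro u hu
      have hnu : nn p * u ∈ U := mul_mem hnU hu
      have e1 : g * (nn p * u) * g⁻¹ = nn p * (g * u * g⁻¹) := by rw [cm, hgn]
      constructor
      · intro h1
        by_contra h2
        have h3 := (hgD _ hnu).1 h1
        rw [e1, (hgD _ hu).2 h2] at h3
        exact h.ne 0 (mul_eq_right.mp h3.symm)
      · intro h1
        by_contra h2
        have h3 := (hgD _ hnu).2 h2
        rw [e1, (hgD _ hu).1 h1] at h3
        have h4 := mul_left_cancel h3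
        exact h.ne 0 (mul_eq_right.mp h4)
    have htD : ∀ u ∈ U, t⁻¹ * u * t ∈ U ∧ (t⁻¹ * u * t ∈ D ↔ u ∈ D) := by
      intro u hu
      have hu' : t⁻¹ * u * t ∈ U := by
        have := hMU t⁻¹ (inv_mem htM) u hu
        rwa [inv_inv] at this
      refine ⟨hu', ?_⟩
      have e : t * (t⁻¹ * u * t) * t⁻¹ = u := by group
      rcases ht _ hu' with h1 | h1
      · rw [← h1, e]
      · rw [← hDn _ hu', ← h1, e]
    refine ⟨hDU, t * g * t⁻¹ * g, mul_mem (mul_mem (mul_mem htM hg) (inv_mem htM)) hg, fun u hu => ?_⟩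
    obtain ⟨hw, hwD⟩ := htD u hu
    have e0 : t * (t⁻¹ * u * t) * t⁻¹ = u := by group
    have e1 : t⁻¹ * p 0 * t = p 1 := by
      rw [← ht1]; group
    constructor
    · intro h1
      have h2 := (hgD u hu).1 h1
      have h3 := (hgD _ hw).1 (hwD.2 h1)
      calc t * g * t⁻¹ * g * u * (t * g * t⁻¹ * g)⁻¹ = t * (g * (t⁻¹ * (g * u * g⁻¹) * t) * g⁻¹) * t⁻¹ := by group
        _ = t * (g * (t⁻¹ * p 0 * t * (t⁻¹ * u * t)) * g⁻¹) * t⁻¹ := by rw [h2]; group
        _ = t * (p 1 * (p 0 * (t⁻¹ * u * t))) * t⁻¹ := by rw [e1, cm g (p 1), hgp, h3]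
        _ = (t * (p 1) * t⁻¹) * (t * p 0 * t⁻¹) * (t * (t⁻¹ * u * t) * t⁻¹) := by group
        _ = nn p * u := by rw [ht1, ht0, e0]
    · intro h1
      have h2 := (hgD u hu).2 h1
      have h3 := (hgD _ hw).2 (fun h4 => h1 (hwD.1 h4))
      calc t * g * t⁻¹ * g * u * (t * g * t⁻¹ * g)⁻¹ = t * (g * (t⁻¹ * (g * u * g⁻¹) * t) * g⁻¹) * t⁻¹ := by group
        _ = u := by rw [h2, h3, e0]
  -- the same size
  have hcard : (F (nn p)).ncard = (F (p 0)).ncard := by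
    obtain ⟨m, hm, h1⟩ := h.full (Equiv.swap 4 0)
    have h2 := hcardeq m (hPM hm) (p 4)
    rw [h1, Equiv.swap_apply_left] at h2
    have h3 := hcardeq y hyM (p 4)
    rw [hyn] at h3
    rw [h2, h3]
  have heq : F (p 0) = F (nn p) := Set.eq_of_subset_of_ncard_le h4b hcard.le (Set.toFinite _)
  -- the functional of `t`
  have htF : {u : G | u ∈ U ∧ t * u * t⁻¹ ≠ u} ∈ F (nn p) := by
    refine ⟨fun u hu => hu.1, t, htM, fun u hu => ⟨fun h1 => (ht u hu).resolve_left h1.2, fun h1 => ?_⟩⟩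
    by_contra h2
    exact h1 ⟨hu, h2⟩
  rw [← heq] at htF
  refine h4a' 0 _ htF 0 ⟨hpU 0, ?_⟩
  rw [ht0]
  intro h1
  exact absurd (h.inj h1) (by decide)

end Cfsg.Agent.Omega.NTwo

end

section


/-!
# Exit N2: standard position of the Sylow subgroup
-/

set_option autoImplicit false

namespace Cfsg.Agent.Omega.NTwo

open Subgroup Cfsg Cfsg.Agent.ZN Cfsg.Agent.MinSimple.VModule Pointwise
open Cfsg.Agent.Omega.MinPar (IsPar IsParS IsLoc NonLoc isLoc_of_le_normalizer)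

universe u

variable {G : Type u} [Group G]

/-! ### The elements of `V` -/

theorem exists_perm : ∀ a b c d : Fin 5, a ≠ b → a ≠ c → a ≠ d → b ≠ c → b ≠ d → c ≠ d →
    ∃ σ : Equiv.Perm (Fin 5), σ 0 = a ∧ σ 1 = b ∧ σ 2 = c ∧ σ 3 = d := by
  decide +kernel

namespace Fv

variable {P : Subgroup G} {p : Fin 5 → G} (h : Fv P p)
include h

theorem pair_inj {a b c d : Fin 5} (hab : a ≠ b) (hcd : c ≠ d) (e : p a * p b = p c * p d) :
    (a = c ∧ b = d) ∨ (a = d ∧ b = c) := by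
  by_cases hac : a = c
  · subst hac
    exact Or.inl ⟨rfl, h.inj (mul_left_cancel e)⟩
  by_cases had : a = d
  · subst had
    rw [h.comm c a] at e
    exact Or.inr ⟨rfl, h.inj (mul_left_cancel e)⟩
  by_cases hbc : b = c
  · subst hbc
    rw [h.comm a b] at e
    exact absurd (h.inj (mul_left_cancel e)) had
  by_cases hbd : b = d
  · subst hbd
    exact absurd (h.inj (mul_right_cancel e)) hac
  exfalso
  -- `p a * p b * p c * p d = 1` although it is `p e`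
  obtain ⟨σ, h0, h1, h2, h3⟩ := exists_perm a b c d hab hac had hbc hbd hcd
  have h5 := h.prod' σ
  rw [h0, h1, h2, h3, e] at h5
  refine h.ne (σ 4) ?_
  rw [← h5, mul_assoc, ← mul_assoc (p d), h.comm d c, mul_assoc (p c), h.sq, mul_one, h.sq]

/-- `p a p b p c` with `a, b, c` distinct is `p d p e` -/
theorem three {a b c : Fin 5} (hab : a ≠ b) (hac : a ≠ c) (hbc : b ≠ c) :
    ∃ d e : Fin 5, d ≠ e ∧ p a * p b * p c = p d * p e := by
  obtain ⟨σ, h0, h1, h2⟩ : ∃ σ : Equiv.Perm (Fin 5), σ 0 = a ∧ σ 1 = b ∧ σ 2 = c := by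
    revert a b c
    decide +kernel
  have h5 := h.prod' σ
  rw [h0, h1, h2] at h5
  refine ⟨σ 4, σ 3, fun e => absurd (σ.injective e) (by decide), ?_⟩
  rw [← h5, mul_assoc, mul_assoc, mul_assoc, mul_assoc, h.sq, mul_one]

theorem mem_closure {x : G} (hx : x ∈ closure (Set.range p)) :
    x = 1 ∨ (∃ i, x = p i) ∨ ∃ i j, i ≠ j ∧ x = p i * p j := by
  have key : ∀ x : G, (x = 1 ∨ (∃ i, x = p i) ∨ ∃ i j, i ≠ j ∧ x = p i * p j) → ∀ k,
      (x * p k = 1 ∨ (∃ i, x * p k = p i) ∨ ∃ i j, i ≠ j ∧ x * p k = p i * p j) := by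
    rintro x (rfl | ⟨i, rfl⟩ | ⟨i, j, hij, rfl⟩) k
    · right; left; exact ⟨k, one_mul _⟩
    · by_cases hik : i = k
      · subst hik; left; exact h.sq i
      · right; right; exact ⟨i, k, hik, rfl⟩
    · by_cases hjk : j = k
      · subst hjk; right; left; exact ⟨i, by rw [mul_assoc, h.sq, mul_one]⟩
      · by_cases hik : i = k
        · subst hik; right; left
          exact ⟨j, by rw [h.comm i j, mul_assoc, h.sq, mul_one]⟩
        · right; right
          exact h.three hij hik hjk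
  induction hx using closure_induction_right with
  | one => exact Or.inl rfl
  | mul_right x hx y hy ih =>
    obtain ⟨k, rfl⟩ := hy
    exact key x ih k
  | mul_inv_cancel x hx y hy ih =>
    obtain ⟨k, rfl⟩ := hy
    rw [h.pinv]
    exact key x ih k

/-- the permutation representation -/
theorem exists_hom : ∃ φ : P →* Equiv.Perm (Fin 5), Function.Surjective φ ∧
    ∀ (g : P) (i : Fin 5), (g : G) * p i * (g : G)⁻¹ = p (φ g i) := by
  choose f hf using fun g : P => h.perm g g.2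
  refine ⟨⟨⟨f, ?_⟩, ?_⟩, ?_, hf⟩
  · ext i
    have h1 : p i = p (f 1 i) := by simpa using hf 1 i
    rw [← h.inj h1]
    rfl
  · intro a b
    ext i
    have h1 := hf (a * b) i
    have h2 : ((a * b : P) : G) * p i * ((a * b : P) : G)⁻¹ = p (f a (f b i)) := by
      rw [← hf a, ← hf b, cc]
      rfl
    rw [h1] at h2
    rw [h.inj h2]
    rfl
  · intro σ
    obtain ⟨g, hg, h1⟩ := h.full σ
    refine ⟨⟨g, hg⟩, ?_⟩
    ext i
    have := hf ⟨g, hg⟩ i
    rw [show ((⟨g, hg⟩ : P) : G) = g from rfl, h1] at this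
    exact congrArg Fin.val (h.inj this).symm

end Fv

/-! ### The dihedral group of order 8 -/

/-- the partition `01 | 23 | 4` -/
def col : Fin 5 → Fin 3 := ![0, 0, 1, 1, 2]

/-- permutations preserving the partition -/
def D8 : Subgroup (Equiv.Perm (Fin 5)) where
  carrier := {σ | ∀ i j, col i = col j ↔ col (σ i) = col (σ j)}
  one_mem' := fun _ _ => Iff.rfl
  mul_mem' := fun {a b} ha hb i j => (hb i j).trans (ha _ _)
  inv_mem' := fun {a} ha i j => by
    have := ha (a⁻¹ i) (a⁻¹ j)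
    rw [show a (a⁻¹ i) = i from a.apply_symm_apply i, show a (a⁻¹ j) = j from a.apply_symm_apply j] at this
    exact this.symm

instance (σ : Equiv.Perm (Fin 5)) : Decidable (σ ∈ D8) :=
  inferInstanceAs (Decidable (∀ i j, col i = col j ↔ col (σ i) = col (σ j)))

theorem D8_card : Nat.card D8 = 8 := by
  rw [Nat.card_eq_fintype_card]
  decide +kernel

theorem D8_fix : ∀ σ ∈ D8, σ 4 = 4 := by decide +kernel

theorem D8_part : ∀ σ ∈ D8, ((σ 0 = 0 ∧ σ 1 = 1) ∨ (σ 0 = 1 ∧ σ 1 = 0)) ∨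
    ((σ 0 = 2 ∧ σ 1 = 3) ∨ (σ 0 = 3 ∧ σ 1 = 2)) := by decide +kernel

theorem D8_tau : (Equiv.swap (0 : Fin 5) 2 * Equiv.swap 1 3) ∈ D8 := by decide +kernel

theorem D8_one : ∀ i : Fin 5, i ≠ 4 → ∃ σ ∈ D8, σ i ≠ i := by decide +kernel

theorem D8_two : ∀ i j : Fin 5, i ≠ j → ∃ σ ∈ D8, ¬ ((σ i = i ∧ σ j = j) ∨ (σ i = j ∧ σ j = i)) := by
  decide +kernel

theorem D8_index : D8.index = 15 := by
  have h1 := card_mul_index D8
  rw [D8_card, Nat.card_perm, Nat.card_eq_fintype_card, Fintype.card_fin] at h1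
  have h2 : Nat.factorial 5 = 8 * 15 := rfl
  rw [h2] at h1
  omega

/-- `D8` as a Sylow 2-subgroup -/
theorem exists_D8 : ∃ D : Sylow 2 (Equiv.Perm (Fin 5)), (D : Subgroup _) = D8 := by
  have hp : Fact (Nat.Prime 2) := ⟨Nat.prime_two⟩
  have h1 : IsPGroup 2 D8 := IsPGroup.of_card (n := 3) (by rw [D8_card]; norm_num)
  exact ⟨h1.toSylow (by rw [D8_index]; decide), rfl⟩

/-- **Standard position.** -/
theorem Fv.exists_std [Finite G] (S : Sylow 2 G) {P : Subgroup G} {p : Fin 5 → G} (h : Fv P p)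
    (hSP : (S : Subgroup G) ≤ P) (hmem : ∀ i, p i ∈ (S : Subgroup G))
    (hzc : ∀ x ∈ zc (S : Subgroup G), x ∈ closure (Set.range p)) :
    ∃ ρ : Equiv.Perm (Fin 5), Std (S : Subgroup G) P (p ∘ ρ) := by
  have hp : Fact (Nat.Prime 2) := ⟨Nat.prime_two⟩
  obtain ⟨φ, hφs, hφ⟩ := h.exists_hom
  obtain ⟨D, hD⟩ := exists_D8
  obtain ⟨ρ, hρ⟩ := MulAction.exists_smul_eq (Equiv.Perm (Fin 5)) D ((S.subtype hSP).mapSurjective hφs)
  -- the image of `S`
  have h1 : ∀ σ, σ ∈ ((S : Subgroup G).subgroupOf P).map φ ↔ ρ⁻¹ * σ * ρ ∈ D8 := by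
    intro σ
    have h2 : (((S.subtype hSP).mapSurjective hφs : Sylow 2 (Equiv.Perm (Fin 5))) : Subgroup _) =
        ((S : Subgroup G).subgroupOf P).map φ := by
      rw [Sylow.coe_mapSurjective]; rfl
    rw [← h2, ← hρ, ← hD]
    exact mem_smul
  have hS : ∀ x ∈ (S : Subgroup G), ∃ d ∈ D8, ∀ i, x * (p ∘ ρ) i * x⁻¹ = (p ∘ ρ) (d i) := by
    intro x hx
    have h2 : φ ⟨x, hSP hx⟩ ∈ ((S : Subgroup G).subgroupOf P).map φ := ⟨_, mem_subgroupOf.2 hx, rfl⟩
    refine ⟨_, (h1 _).1 h2, fun i => ?_⟩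
    have h3 := hφ ⟨x, hSP hx⟩ (ρ i)
    change x * p (ρ i) * x⁻¹ = _ at h3
    rw [Function.comp_apply, h3, Function.comp_apply, Equiv.Perm.mul_apply, Equiv.Perm.mul_apply]
    rw [show ρ (ρ⁻¹ _) = _ from ρ.apply_symm_apply _]
  have hD : ∀ d ∈ D8, ∃ x ∈ (S : Subgroup G), ∀ i, x * (p ∘ ρ) i * x⁻¹ = (p ∘ ρ) (d i) := by
    intro d hd
    have h2 : ρ * d * ρ⁻¹ ∈ ((S : Subgroup G).subgroupOf P).map φ := by
      rw [h1]
      have e : ρ⁻¹ * (ρ * d * ρ⁻¹) * ρ = d := by group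
      rwa [e]
    obtain ⟨x, hx, h3⟩ := h2
    refine ⟨x, mem_subgroupOf.1 hx, fun i => ?_⟩
    have h4 := hφ x (ρ i)
    rw [Function.comp_apply, h4, h3, Function.comp_apply, Equiv.Perm.mul_apply, Equiv.Perm.mul_apply]
    rw [show ρ⁻¹ (ρ i) = i from ρ.symm_apply_apply _]
  have h' := h.relabel ρ
  refine ⟨ρ, { toFv := h', le := hSP, mem := fun i => hmem _, fix := ?_, part := ?_, tau := ?_, zc4 := ?_ }⟩
  · intro x hx
    obtain ⟨d, hd, h2⟩ := hS x hx
    rw [h2, D8_fix d hd]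
  · intro x hx
    obtain ⟨d, hd, h2⟩ := hS x hx
    rw [cm, h2, h2]
    rcases D8_part d hd with (⟨e1, e2⟩ | ⟨e1, e2⟩) | (⟨e1, e2⟩ | ⟨e1, e2⟩)
    · left; rw [e1, e2]
    · left; rw [e1, e2]; exact h'.comm _ _
    · right; rw [e1, e2]
    · right; rw [e1, e2]; exact h'.comm _ _
  · obtain ⟨x, hx, h2⟩ := hD _ D8_tau
    refine ⟨x, hx, ?_⟩
    rw [cm, h2, h2]
    rfl
  · intro x hx
    have h2 : ∀ b ∈ (S : Subgroup G), b * x * b⁻¹ = x := fun b hb => comm_iff.2 ((mem_zc.1 hx).2.1 b hb)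
    have h3 : x ∈ closure (Set.range (p ∘ ρ)) := by
      rw [ρ.surjective.range_comp]
      exact hzc x hx
    rcases h'.mem_closure h3 with h4 | ⟨i, rfl⟩ | ⟨i, j, hij, rfl⟩
    · exact Or.inl h4
    · right
      by_cases hi : i = 4
      · rw [hi]
      · exfalso
        obtain ⟨d, hd, h5⟩ := D8_one i hi
        obtain ⟨b, hb, h6⟩ := hD d hd
        have h7 := h2 b hb
        rw [h6] at h7
        exact h5 (h'.inj h7)
    · exfalso
      obtain ⟨d, hd, h5⟩ := D8_two i j hij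
      obtain ⟨b, hb, h6⟩ := hD d hd
      have h7 := h2 b hb
      rw [cm, h6, h6] at h7
      exact h5 (h'.pair_inj (fun e => hij (d.injective e)) hij h7)

end Cfsg.Agent.Omega.NTwo

end

section


/-!
# Exit N2 (text bb OMEGA 12859, helper690)

`P ∈ P*(S)` of type `S₅` (`V_P` = even subsets of five points).
* `exit` : a 2-element `t` inducing a transposition on `V_P`, with 2-central centre `n` and
  `[O₂(C(n)), t] ≤ ⟨n⟩`, gives `P' ∈ P*(S)` with `|V_{P'}| = 4` and `⟨P', C(Ω₁Z(S))⟩` nonlocal;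
* `exit_nat` : a mutual pair `V_P`, `(V_{P₂})^x` with `|V_{P₂}| = 4`;
* `exit_tt` : a mutual pair of type T-T (`V_P`, `(V_{P₂})^x`, both of type `S₅`, `[V, V'] = ⟨n⟩`), `n` 2-central.
-/

set_option autoImplicit false

namespace Cfsg.Agent.Omega.NTwo

open Subgroup Cfsg Cfsg.Agent.ZN Cfsg.Agent.MinSimple.VModule Pointwise
open Cfsg.Agent.Omega.MinPar (IsPar IsParS IsLoc NonLoc isLoc_of_le_normalizer)
open scoped commutatorElement

universe u

variable {G : Type u} [Group G]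

/-- `P` is of type `S₅` : `V_P` is the even-subset module of degree 5. -/
def TypeFive (S P : Subgroup G) : Prop := ∃ p : Fin 5 → G, Fv P p ∧ zl S P = closure (Set.range p)

/-- the conclusion: exit N2 -/
def Exit (S : Subgroup G) : Prop :=
  ∃ P' : Subgroup G, IsParS S P' ∧ Nat.card (zl S P') = 4 ∧ NonLoc P' (centralizer (zc S : Set G))

/-- `t` is a 2-element, `[V_P, t] = ⟨n⟩`, `n` is 2-central, `[O₂(C(n)), t] ≤ ⟨n⟩`. -/
structure Tw (S P : Subgroup G) (t n : G) : Prop where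
  norm : t ∈ normalizer (zl S P : Set G)
  two : IsPGroup 2 (zpowers t)
  act : ∀ v ∈ zl S P, t * v * t⁻¹ = v ∨ t * v * t⁻¹ = n * v
  ne : ∃ v ∈ zl S P, t * v * t⁻¹ ≠ v
  fix : t * n * t⁻¹ = n
  cen : ∃ T₀ : Sylow 2 G, ∀ x ∈ (T₀ : Subgroup G), x * n * x⁻¹ = n
  quad : ∀ q ∈ o2 (centralizer ({n} : Set G)), t * q * t⁻¹ = q ∨ t * q * t⁻¹ = n * q

/-- exchange of the two transpositions -/
theorem Std.exchange {S P : Subgroup G} {p : Fin 5 → G} (h : Std S P p) :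
    Std S P (p ∘ (Equiv.swap (0 : Fin 5) 2 * Equiv.swap 1 3 : Equiv.Perm (Fin 5))) := by
  have e0 : (Equiv.swap (0 : Fin 5) 2 * Equiv.swap 1 3 : Equiv.Perm (Fin 5)) 0 = 2 := by decide
  have e1 : (Equiv.swap (0 : Fin 5) 2 * Equiv.swap 1 3 : Equiv.Perm (Fin 5)) 1 = 3 := by decide
  have e2 : (Equiv.swap (0 : Fin 5) 2 * Equiv.swap 1 3 : Equiv.Perm (Fin 5)) 2 = 0 := by decide
  have e3 : (Equiv.swap (0 : Fin 5) 2 * Equiv.swap 1 3 : Equiv.Perm (Fin 5)) 3 = 1 := by decide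
  have e4 : (Equiv.swap (0 : Fin 5) 2 * Equiv.swap 1 3 : Equiv.Perm (Fin 5)) 4 = 4 := by decide
  have hpa : ∀ x ∈ S, x * aa p * x⁻¹ = aa p ∨ x * aa p * x⁻¹ = nn p := by
    intro x hx
    rcases h.part x hx with h1 | h1
    · left
      rw [h.a_eq, cm, h.fix x hx]
      change (x * (p 0 * p 1) * x⁻¹) * p 4 = _
      rw [h1]
    · right; exact h.s_eq_conj hx h1
  refine { toFv := h.toFv.relabel _, le := h.le, mem := fun i => h.mem _, fix := ?_, part := ?_, tau := ?_, zc4 := ?_ }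
  · simpa only [Function.comp_apply, e4] using h.fix
  · simpa only [Function.comp_apply, e0, e1, e2, e3] using hpa
  · obtain ⟨x, hx, h1⟩ := h.tau
    refine ⟨x, hx, ?_⟩
    simp only [Function.comp_apply, e0, e1, e2, e3]
    exact h.s_eq_conj hx h1
  · simpa only [Function.comp_apply, e4] using h.zc4

/-- **Normal form** of a 2-element inducing a transvection on `V_P`. -/
theorem reduce [Finite G] (hG : IsCharacteristicTwoType G) (S : Sylow 2 G) {P : Subgroup G}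
    (hP : IsParS (S : Subgroup G) P) (hF : TypeFive (S : Subgroup G) P) {t n : G}
    (htV : t ∈ normalizer (zl (S : Subgroup G) P : Set G)) (ht2 : IsPGroup 2 (zpowers t))
    (ht : ∀ v ∈ zl (S : Subgroup G) P, t * v * t⁻¹ = v ∨ t * v * t⁻¹ = n * v)
    (hne : ∃ v ∈ zl (S : Subgroup G) P, t * v * t⁻¹ ≠ v) :
    ∃ c ∈ normalizer (zl (S : Subgroup G) P : Set G), ∃ p : Fin 5 → G, Std (S : Subgroup G) P p ∧
      zl (S : Subgroup G) P = closure (Set.range p) ∧ c * t * c⁻¹ ∈ (S : Subgroup G) ∧ c * n * c⁻¹ = nn p ∧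
      c * t * c⁻¹ * p 0 * (c * t * c⁻¹)⁻¹ = p 1 := by
  obtain ⟨p, hp, hV⟩ := hF
  have hle : zl (S : Subgroup G) P ≤ zc (o2 P) := hP.isLoc.zl_le S hG
  have hO : o2 P ≤ (S : Subgroup G) := hP.isLoc.o2_le S
  have hVS : zl (S : Subgroup G) P ≤ (S : Subgroup G) := (hle.trans (zc_le _)).trans hO
  obtain ⟨ρ, hstd⟩ := hp.exists_std S hP.le
    (fun i => hVS (hV ▸ subset_closure (Set.mem_range_self i))) (fun x hx => hV ▸ zc_le_zl _ _ hx)
  have hVρ : zl (S : Subgroup G) P = closure (Set.range (p ∘ ρ)) := by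
    rw [ρ.surjective.range_comp, hV]
  clear hV hp
  generalize p ∘ ρ = p' at hstd hVρ
  clear ρ p
  have hSN : (S : Subgroup G) ≤ normalizer (zl (S : Subgroup G) P : Set G) :=
    hP.le.trans (le_normalizer_zl _ _)
  obtain ⟨c, hc, hct⟩ := exists_conj_mem S hSN htV ht2
  have hcV : ∀ v ∈ zl (S : Subgroup G) P, c⁻¹ * v * c ∈ zl (S : Subgroup G) P := fun v hv => by
    have := (mem_normalizer_iff.1 (inv_mem hc) v).1 hv
    rwa [inv_inv] at this
  -- the action of `t' = c t c⁻¹`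
  obtain ⟨t', ht'⟩ : ∃ t', t' = c * t * c⁻¹ := ⟨_, rfl⟩
  obtain ⟨n', hn'⟩ : ∃ n', n' = c * n * c⁻¹ := ⟨_, rfl⟩
  rw [← ht'] at hct
  have hact : ∀ v ∈ zl (S : Subgroup G) P, t' * v * t'⁻¹ = v ∨ t' * v * t'⁻¹ = n' * v := by
    intro v hv
    rcases ht _ (hcV v hv) with h1 | h1
    · left
      calc t' * v * t'⁻¹ = c * (t * (c⁻¹ * v * c) * t⁻¹) * c⁻¹ := by rw [ht']; group
        _ = v := by rw [h1]; group
    · right
      calc t' * v * t'⁻¹ = c * (t * (c⁻¹ * v * c) * t⁻¹) * c⁻¹ := by rw [ht']; group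
        _ = n' * v := by rw [h1, hn']; group
  have hne' : ∃ v ∈ zl (S : Subgroup G) P, t' * v * t'⁻¹ ≠ v := by
    obtain ⟨v, hv, h1⟩ := hne
    refine ⟨c * v * c⁻¹, (mem_normalizer_iff.1 hc v).1 hv, fun h2 => h1 ?_⟩
    refine conj_inj (g := c) ?_
    rw [← h2, ht']
    group
  obtain ⟨σ, hσ⟩ := hstd.perm t' (hstd.le hct)
  have hpV : ∀ i, p' i ∈ zl (S : Subgroup G) P := fun i => hVρ ▸ subset_closure (Set.mem_range_self i)
  have hmov : ∃ i, σ i ≠ i := by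
    by_contra hcon
    push Not at hcon
    obtain ⟨v, hv, h1⟩ := hne'
    refine h1 (comm_iff.2 ?_)
    have h2 : closure (Set.range p') ≤ centralizer ({t'} : Set G) := by
      rw [closure_le]
      rintro _ ⟨i, rfl⟩
      rw [SetLike.mem_coe, mem_centralizer_singleton_iff]
      have := hσ i
      rw [hcon, comm_iff] at this
      exact this.symm
    exact (mem_centralizer_singleton_iff.1 (h2 (hVρ ▸ hv))).symm
  obtain ⟨i, hi⟩ := hmov
  have hn'ij : n' = p' i * p' (σ i) := by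
    rcases hact _ (hpV i) with h1 | h1
    · rw [hσ] at h1; exact absurd (hstd.inj h1) hi
    · rw [hσ] at h1
      rw [hstd.comm, h1, mul_assoc, hstd.sq, mul_one]
  have hσk : ∀ k, k ≠ i → k ≠ σ i → σ k = k := by
    intro k hk1 hk2
    rcases hact _ (hpV k) with h1 | h1
    · rw [hσ] at h1; exact hstd.inj h1
    · rw [hσ, hn'ij] at h1
      obtain ⟨d, e, hde, h2⟩ := hstd.three (Ne.symm hi) (Ne.symm hk1) (Ne.symm hk2)
      rw [h2] at h1
      exact absurd h1.symm (hstd.mul_ne hde _)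
  have hσσ : σ (σ i) = i := by
    by_contra hne2
    have h1 : σ (σ (σ i)) = σ (σ i) := hσk _ hne2 (fun e => hi (σ.injective e))
    exact hi (σ.injective (σ.injective h1))
  have hi4 : i ≠ 4 := by
    rintro rfl
    have := hstd.fix t' hct
    rw [hσ] at this
    exact hi (hstd.inj this)
  have hσi4 : σ i ≠ 4 := by
    intro e
    have h1 := hstd.fix t' hct
    rw [hσ] at h1
    have h2 := hstd.inj h1
    rw [← e, hσσ, e] at h2
    exact hi4 h2
  have hpart : ((i = 0 ∧ σ i = 1) ∨ (i = 1 ∧ σ i = 0)) ∨ ((i = 2 ∧ σ i = 3) ∨ (i = 3 ∧ σ i = 2)) := by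
    have h1 := hstd.part t' hct
    rw [cm, hσ, hσ] at h1
    have h2 : σ 0 ≠ σ 1 := fun e => absurd (σ.injective e) (by decide)
    have h3 : ((σ 0 = 0 ∧ σ 1 = 1) ∨ (σ 0 = 1 ∧ σ 1 = 0)) ∨ ((σ 0 = 2 ∧ σ 1 = 3) ∨ (σ 0 = 3 ∧ σ 1 = 2)) := by
      rcases h1 with h1 | h1
      · exact Or.inl (hstd.pair_inj h2 (by decide) h1)
      · exact Or.inr (hstd.pair_inj h2 (by decide) h1)
    clear hact hn'ij hσ hpV h1 h2
    revert σ i
    decide +kernel
  have hn'i : n' = p' (σ i) * p' i := by rw [hn'ij, hstd.comm]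
  rcases hpart with (⟨e1, e2⟩ | ⟨e1, e2⟩) | (⟨e1, e2⟩ | ⟨e1, e2⟩)
  · refine ⟨c, hc, p', hstd, hVρ, ht' ▸ hct, ?_, ?_⟩
    · rw [← hn', hn'ij, e2, e1]
    · rw [← ht', hσ, ← e1, e2]
  · refine ⟨c, hc, p', hstd, hVρ, ht' ▸ hct, ?_, ?_⟩
    · rw [← hn', hn'i, e2, e1]
    · rw [← ht', hσ, ← e2, hσσ, e1]
  · refine ⟨c, hc, _, hstd.exchange, ?_, ht' ▸ hct, ?_, ?_⟩
    · rw [Equiv.surjective _ |>.range_comp]; exact hVρ
    · rw [← hn', hn'ij, e2, e1]; rfl
    · rw [← ht']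
      change t' * p' 2 * t'⁻¹ = p' 3
      rw [hσ, ← e1, e2]
  · refine ⟨c, hc, _, hstd.exchange, ?_, ht' ▸ hct, ?_, ?_⟩
    · rw [Equiv.surjective _ |>.range_comp]; exact hVρ
    · rw [← hn', hn'i, e2, e1]; rfl
    · rw [← ht']
      change t' * p' 2 * t'⁻¹ = p' 3
      rw [hσ, ← e2, hσσ, e1]

/-- `C(Ω₁Z(S)) = C(p 4)` -/
theorem cent_zc {S P : Subgroup G} {p : Fin 5 → G} (h : Std S P p) :
    centralizer (zc S : Set G) = centralizer ({p 4} : Set G) := by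
  have hs : p 4 ∈ zc S :=
    mem_zc.2 ⟨h.mem 4, fun b hb => comm_iff.1 (h.fix b hb), by rw [sq]; exact h.sq 4⟩
  ext g
  rw [mem_centralizer_singleton_iff, mem_centralizer_iff]
  constructor
  · intro h1
    exact (h1 _ hs).symm
  · intro h1 x hx
    rcases h.zc4 x hx with rfl | rfl
    · simp
    · exact h1.symm

/-- the group `{1, n, a, s}` has order 4 -/
theorem card_four {S P P' : Subgroup G} {p : Fin 5 → G} (h : Std S P p)
    (hz : ∀ x, x ∈ zl S P' ↔ x = 1 ∨ x = nn p ∨ x = aa p ∨ x = p 4) : Nat.card (zl S P') = 4 := by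
  classical
  have h1 : (zl S P' : Set G) = (({1, nn p, aa p, p 4} : Finset G) : Set G) := by
    ext x
    simp only [SetLike.mem_coe, hz, Finset.coe_insert, Finset.coe_singleton, Set.mem_insert_iff,
      Set.mem_singleton_iff]
  have h2 : Nat.card (zl S P') = (zl S P' : Set G).ncard := rfl
  rw [h2, h1, Set.ncard_coe_finset, Finset.card_insert_of_notMem, Finset.card_insert_of_notMem,
    Finset.card_insert_of_notMem, Finset.card_singleton]
  · simp only [Finset.mem_singleton]; exact h.a_ne_four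
  · simp only [Finset.mem_insert, Finset.mem_singleton, not_or]; exact ⟨h.n_ne_a, h.n_ne_four⟩
  · simp only [Finset.mem_insert, Finset.mem_singleton, not_or]
    exact ⟨h.n_ne_one.symm, h.a_ne_one.symm, (h.ne 4).symm⟩

/-- **Exit N2, general form.** -/
theorem exit [Finite G] (hG : IsCharacteristicTwoType G) (S : Sylow 2 G) {P : Subgroup G}
    (hP : IsParS (S : Subgroup G) P) (hF : TypeFive (S : Subgroup G) P) {t n : G}
    (htV : t ∈ normalizer (zl (S : Subgroup G) P : Set G)) (ht2 : IsPGroup 2 (zpowers t))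
    (ht : ∀ v ∈ zl (S : Subgroup G) P, t * v * t⁻¹ = v ∨ t * v * t⁻¹ = n * v)
    (hne : ∃ v ∈ zl (S : Subgroup G) P, t * v * t⁻¹ ≠ v) (htn : t * n * t⁻¹ = n)
    (T₀ : Sylow 2 G) (hT₀ : ∀ x ∈ (T₀ : Subgroup G), x * n * x⁻¹ = n)
    (htQ : ∀ q ∈ o2 (centralizer ({n} : Set G)), t * q * t⁻¹ = q ∨ t * q * t⁻¹ = n * q) :
    Exit (S : Subgroup G) := by
  obtain ⟨c, hc, p, hstd, hV, hct, hcn, hct0⟩ := reduce hG S hP hF htV ht2 ht hne
  have hT₁ : ∀ x ∈ ((c • T₀ : Sylow 2 G) : Subgroup G), x * nn p * x⁻¹ = nn p := by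
    intro x hx
    have h1 := hT₀ _ (mem_smul.1 hx)
    calc x * nn p * x⁻¹ = c * ((c⁻¹ * x * c) * n * (c⁻¹ * x * c)⁻¹) * c⁻¹ := by rw [← hcn]; group
      _ = nn p := by rw [h1, hcn]
  obtain ⟨P', hP', hy, hz, -⟩ := exists_par S hstd (c • T₀) hT₁
  refine ⟨P', hP', card_four hstd hz, ?_⟩
  rw [cent_zc hstd]
  refine nonLoc hG S hstd hP'.le hy (c • T₀) hT₁ (t := c * t * c⁻¹) hct0 ?_ ?_
  · calc c * t * c⁻¹ * nn p * (c * t * c⁻¹)⁻¹ = c * (t * n * t⁻¹) * c⁻¹ := by rw [← hcn]; group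
      _ = nn p := by rw [htn, hcn]
  · intro q hq
    have h1 : c⁻¹ * q * c ∈ o2 (centralizer ({n} : Set G)) := by
      have e1 : (o2 (centralizer ({n} : Set G))).map (MulAut.conj c).toMonoidHom =
          o2 ((centralizer ({n} : Set G)).map (MulAut.conj c).toMonoidHom) :=
        (MinPar.o2_map_equiv (MulAut.conj c) _).symm
      have e2 : (centralizer ({n} : Set G)).map (MulAut.conj c).toMonoidHom = centralizer ({nn p} : Set G) := by
        ext x
        rw [mem_map_equiv, mem_cent, mem_cent]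
        have : (MulAut.conj c).symm x = c⁻¹ * x * c := by
          rw [MulAut.conj_symm_apply]
        rw [this, ← hcn]
        constructor
        · intro h1
          calc x * (c * n * c⁻¹) * x⁻¹ = c * ((c⁻¹ * x * c) * n * (c⁻¹ * x * c)⁻¹) * c⁻¹ := by group
            _ = c * n * c⁻¹ := by rw [h1]
        · intro h1
          calc (c⁻¹ * x * c) * n * (c⁻¹ * x * c)⁻¹ = c⁻¹ * (x * (c * n * c⁻¹) * x⁻¹) * c := by group
            _ = n := by rw [h1]; group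
      rw [← e2, ← e1] at hq
      obtain ⟨q', hq', rfl⟩ := hq
      have : c⁻¹ * (MulAut.conj c).toMonoidHom q' * c = q' := by
        change c⁻¹ * (c * q' * c⁻¹) * c = q'
        group
      rwa [this]
    rcases htQ _ h1 with h2 | h2
    · left
      calc c * t * c⁻¹ * q * (c * t * c⁻¹)⁻¹ = c * (t * (c⁻¹ * q * c) * t⁻¹) * c⁻¹ := by group
        _ = q := by rw [h2]; group
    · right
      calc c * t * c⁻¹ * q * (c * t * c⁻¹)⁻¹ = c * (t * (c⁻¹ * q * c) * t⁻¹) * c⁻¹ := by group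
        _ = c * n * c⁻¹ * q := by rw [h2]; group
        _ = nn p * q := by rw [hcn]

theorem Tw.exit [Finite G] (hG : IsCharacteristicTwoType G) (S : Sylow 2 G) {P : Subgroup G}
    (hP : IsParS (S : Subgroup G) P) (hF : TypeFive (S : Subgroup G) P) {t n : G}
    (h : Tw (S : Subgroup G) P t n) : Exit (S : Subgroup G) := by
  obtain ⟨T₀, hT₀⟩ := h.cen
  exact NTwo.exit hG S hP hF h.norm h.two h.act h.ne h.fix T₀ hT₀ h.quad

end Cfsg.Agent.Omega.NTwo

end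

section


/-!
# Exit N2: natural `SL₂(2)` against a transposition of `S₅` (text bb OMEGA 12859, helper690)
-/

set_option autoImplicit false

namespace Cfsg.Agent.Omega.NTwo

open Subgroup Cfsg Cfsg.Agent.ZN Cfsg.Agent.MinSimple.VModule Pointwise
open Cfsg.Agent.Omega.MinPar (IsPar IsParS IsLoc NonLoc isLoc_of_le_normalizer)
open scoped commutatorElement

universe u

variable {G : Type u} [Group G]

theorem mem_csmul {g x : G} {H : Subgroup G} : x ∈ MulAut.conj g • H ↔ g⁻¹ * x * g ∈ H := by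
  rw [mem_pointwise_smul_iff_inv_smul_mem]
  have : (MulAut.conj g)⁻¹ • x = g⁻¹ * x * g := by
    rw [← map_inv]
    change MulAut.conj g⁻¹ x = _
    rw [MulAut.conj_apply, inv_inv]
  rw [this]

theorem csmul_mem {g x : G} {H : Subgroup G} (hx : x ∈ H) : g * x * g⁻¹ ∈ MulAut.conj g • H := by
  rw [mem_csmul]
  have e : g⁻¹ * (g * x * g⁻¹) * g = x := by group
  rwa [e]

/-- a group of order 4 with three different known nontrivial elements -/
theorem mem_four [Finite G] {E : Subgroup G} (h4 : Nat.card E = 4) {a b c : G} (ha : a ∈ E) (hb : b ∈ E) (hc : c ∈ E)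
    (ha1 : a ≠ 1) (hb1 : b ≠ 1) (hc1 : c ≠ 1) (hab : a ≠ b) (hac : a ≠ c) (hbc : b ≠ c) {x : G} (hx : x ∈ E) :
    x = 1 ∨ x = a ∨ x = b ∨ x = c := by
  classical
  by_contra hcon
  simp only [not_or] at hcon
  obtain ⟨h1, h2, h3, h5⟩ := hcon
  have h6 : (({x, 1, a, b, c} : Finset G) : Set G) ⊆ (E : Set G) := by
    intro y hy
    simp only [Finset.coe_insert, Finset.coe_singleton, Set.mem_insert_iff, Set.mem_singleton_iff] at hy
    rcases hy with rfl | rfl | rfl | rfl | rfl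
    · exact hx
    · exact one_mem _
    · exact ha
    · exact hb
    · exact hc
  have h7 := Set.ncard_le_ncard h6 (Set.toFinite _)
  rw [Set.ncard_coe_finset, Finset.card_insert_of_notMem, Finset.card_insert_of_notMem,
    Finset.card_insert_of_notMem, Finset.card_insert_of_notMem, Finset.card_singleton] at h7
  · have h8 : (E : Set G).ncard = Nat.card E := rfl
    rw [h8, h4] at h7
    omega
  · simpa using hbc
  · simp [hab, hac]
  · simp [ha1.symm, hb1.symm, hc1.symm]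
  · simp [h1, h2, h3, h5]

/-- `P₂` is transitive on `V_{P₂}#` if `|V_{P₂}| = 4` and `|Ω₁Z(S)| = 2` -/
theorem exists_conj_eq [Finite G] (hG : IsCharacteristicTwoType G) (S : Sylow 2 G) {P₂ : Subgroup G}
    (hP : IsParS (S : Subgroup G) P₂) (h4 : Nat.card (zl (S : Subgroup G) P₂) = 4) {s : G}
    (hs : ∀ x ∈ zc (S : Subgroup G), x = 1 ∨ x = s) (hs1 : s ≠ 1) (hsz : s ∈ zc (S : Subgroup G))
    {w : G} (hw : w ∈ zl (S : Subgroup G) P₂) (hw1 : w ≠ 1) : ∃ g ∈ P₂, g * s * g⁻¹ = w := by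
  have hle : zl (S : Subgroup G) P₂ ≤ zc (o2 P₂) := hP.isLoc.zl_le S hG
  have hO : o2 P₂ ≤ (S : Subgroup G) := hP.isLoc.o2_le S
  have hVS : zl (S : Subgroup G) P₂ ≤ (S : Subgroup G) := (hle.trans (zc_le _)).trans hO
  have hsV : s ∈ zl (S : Subgroup G) P₂ := zc_le_zl _ _ hsz
  obtain ⟨g, hg, hgs⟩ : ∃ g ∈ P₂, g * s * g⁻¹ ≠ s := by
    by_contra hcon
    push Not at hcon
    refine hP.not_zc fun y hy => ?_
    rw [mem_normalizer_iff]
    intro x
    constructor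
    · intro hx
      rcases hs x hx with rfl | rfl
      · simp
      · rw [hcon y hy]; exact hx
    · intro hx
      rcases hs _ hx with h1 | h1
      · have : x = 1 := by
          calc x = y⁻¹ * (y * x * y⁻¹) * y := by group
            _ = 1 := by rw [h1]; group
        rw [this]; exact one_mem _
      · rw [← hcon y hy] at h1
        rw [conj_inj h1]; exact hsz
  have hNP : ∀ g ∈ P₂, ∀ v ∈ zl (S : Subgroup G) P₂, g * v * g⁻¹ ∈ zl (S : Subgroup G) P₂ := fun g hg v hv =>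
    (mem_normalizer_iff.1 (le_normalizer_zl _ _ hg) v).1 hv
  have hne : ∀ g v : G, v ≠ 1 → g * v * g⁻¹ ≠ 1 := fun g v hv e => hv (by
    calc v = g⁻¹ * (g * v * g⁻¹) * g := by group
      _ = 1 := by rw [e]; group)
  by_cases h1 : w = s
  · exact ⟨1, one_mem _, by rw [h1]; group⟩
  by_cases h2 : w = g * s * g⁻¹
  · exact ⟨g, hg, h2.symm⟩
  obtain ⟨w1, hw1'⟩ : ∃ w1, w1 = g * s * g⁻¹ := ⟨_, rfl⟩
  rw [← hw1'] at hgs h2
  have hw1V : w1 ∈ zl (S : Subgroup G) P₂ := hw1' ▸ hNP g hg s hsV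
  have hw11 : w1 ≠ 1 := hw1' ▸ hne g s hs1
  -- some `τ ∈ S` moves `w1`
  obtain ⟨τ, hτ, hτw⟩ : ∃ τ ∈ (S : Subgroup G), τ * w1 * τ⁻¹ ≠ w1 := by
    by_contra hcon
    push Not at hcon
    have h3 : w1 ∈ zc (S : Subgroup G) :=
      mem_zc.2 ⟨hVS hw1V, fun b hb => comm_iff.1 (hcon b hb), zc_sq _ _ (hle hw1V)⟩
    rcases hs _ h3 with h5 | h5
    · exact hw11 h5
    · exact hgs h5
  have h3 := hNP τ (hP.le hτ) w1 hw1V
  rcases mem_four h4 hsV hw1V hw hs1 hw11 hw1 hgs.symm (Ne.symm h1) (Ne.symm h2) h3 with h5 | h5 | h5 | h5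
  · exact absurd h5 (hne τ w1 hw11)
  · exfalso
    have h6 : τ * s * τ⁻¹ = s := comm_iff.2 ((mem_zc.1 hsz).2.1 τ hτ)
    exact hgs (conj_inj (h5.trans h6.symm))
  · exact absurd h5 hτw
  · exact ⟨τ * g, mul_mem (hP.le hτ) hg, by rw [← cc, ← hw1', h5]⟩

/-- **(F3), natural `SL₂(2)` against a transposition of `S₅`.** -/
theorem exists_tw_nat [Finite G] (hG : IsCharacteristicTwoType G) (S : Sylow 2 G) {P P₂ : Subgroup G} {x : G}
    (h : Mutual (S : Subgroup G) P P₂ x) (hF : TypeFive (S : Subgroup G) P)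
    (h4 : Nat.card (zl (S : Subgroup G) P₂) = 4) : ∃ t n, Tw (S : Subgroup G) P t n := by
  have hle : zl (S : Subgroup G) P ≤ zc (o2 P) := h.star₁.isLoc.zl_le S hG
  have hle₂ : zl (S : Subgroup G) P₂ ≤ zc (o2 P₂) := h.star₂.isLoc.zl_le S hG
  -- `E`
  obtain ⟨E, hE⟩ : ∃ E, E = MulAut.conj x • zl (S : Subgroup G) P₂ := ⟨_, rfl⟩
  have hEc : ∀ a ∈ E, ∀ b ∈ E, a * b = b * a := by
    intro a ha b hb
    rw [hE, mem_csmul] at ha hb
    have h1 := zc_comm _ _ (hle₂ ha) _ (hle₂ hb)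
    calc a * b = x * ((x⁻¹ * a * x) * (x⁻¹ * b * x)) * x⁻¹ := by group
      _ = x * ((x⁻¹ * b * x) * (x⁻¹ * a * x)) * x⁻¹ := by rw [h1]
      _ = b * a := by group
  have hEs : ∀ a ∈ E, a * a = 1 := by
    intro a ha
    rw [hE, mem_csmul] at ha
    have h1 := zc_sq _ _ (hle₂ ha)
    rw [sq] at h1
    calc a * a = x * ((x⁻¹ * a * x) * (x⁻¹ * a * x)) * x⁻¹ := by group
      _ = 1 := by rw [h1]; group
  have hE4 : Nat.card E = 4 := by
    rw [hE, ← h4]
    exact (Nat.card_congr (equivSMul (MulAut.conj x) _).toEquiv).symm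
  have hEinv : ∀ a ∈ E, a⁻¹ = a := fun a ha => inv_eq_of_mul_eq_one_left (hEs a ha)
  have hVc : ∀ a ∈ zl (S : Subgroup G) P, ∀ b ∈ zl (S : Subgroup G) P, a * b = b * a := fun a ha b hb =>
    zc_comm _ _ (hle ha) _ (hle hb)
  have hVs : ∀ a ∈ zl (S : Subgroup G) P, a * a = 1 := fun a ha => by
    rw [← sq]; exact zc_sq _ _ (hle ha)
  have h1 : zl (S : Subgroup G) P ≤ normalizer (E : Set G) := hE ▸ h.le₁
  have h2 : E ≤ normalizer (zl (S : Subgroup G) P : Set G) := hE ▸ h.le₂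
  -- `v0`, `t`
  obtain ⟨v0, hv0, t, ht, hvt⟩ : ∃ v ∈ zl (S : Subgroup G) P, ∃ t ∈ E, v * t * v⁻¹ ≠ t := by
    by_contra hcon
    push Not at hcon
    apply h.ne
    rw [← hE, commutator_eq_bot_iff_le_centralizer]
    intro v hv
    rw [mem_centralizer_iff]
    intro t ht
    exact (comm_iff.1 (hcon v hv t ht)).symm
  have hVE : ∀ v ∈ zl (S : Subgroup G) P, ∀ a ∈ E, v * a * v⁻¹ ∈ E := fun v hv a ha =>
    (mem_normalizer_iff.1 (h1 hv) a).1 ha
  obtain ⟨n, hn⟩ : ∃ n, n = t * (v0 * t * v0⁻¹) := ⟨_, rfl⟩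
  have hnE : n ∈ E := hn ▸ mul_mem ht (hVE v0 hv0 t ht)
  have hn1 : n ≠ 1 := by
    intro e
    apply hvt
    calc v0 * t * v0⁻¹ = t * (t * (v0 * t * v0⁻¹)) := by rw [← mul_assoc, hEs t ht, one_mul]
      _ = t := by rw [← hn, e, mul_one]
  have hv0t : v0 * t * v0⁻¹ = t * n := by
    rw [hn, ← mul_assoc, hEs t ht, one_mul]
  have hnc0 : v0 * n * v0⁻¹ = n := by
    have e : v0 * (v0 * t * v0⁻¹) * v0⁻¹ = t := by
      rw [cc, hVs v0 hv0]; group
    rw [hn, cm, e, hEc _ (hVE v0 hv0 t ht) _ ht]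
  have htn : t ≠ n := fun e => hvt (by rw [e]; exact hnc0)
  have ht1 : t ≠ 1 := fun e => hvt (by rw [e]; group)
  have htnE : t * n ∈ E := mul_mem ht hnE
  have htn1 : t * n ≠ 1 := fun e => htn (by
    calc t = t * (n * n) := by rw [hEs n hnE, mul_one]
      _ = n := by rw [← mul_assoc, e, one_mul])
  have ht_tn : t ≠ t * n := fun e => hn1 (mul_eq_left.1 e.symm)
  have hn_tn : n ≠ t * n := fun e => ht1 (mul_eq_right.1 e.symm)
  have hmem : ∀ a ∈ E, a = 1 ∨ a = t ∨ a = n ∨ a = t * n := fun a ha =>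
    mem_four hE4 ht hnE htnE ht1 hn1 htn1 htn ht_tn hn_tn ha
  -- `V` centralises `n`
  have hVn : ∀ v ∈ zl (S : Subgroup G) P, v * n * v⁻¹ = n := by
    intro v hv
    have h3 : v0 * (v * n * v⁻¹) * v0⁻¹ = v * n * v⁻¹ := by
      rw [cc, hVc v0 hv0 v hv, ← cc, hnc0]
    rcases hmem _ (hVE v hv n hnE) with h5 | h5 | h5 | h5
    · exfalso; apply hn1
      calc n = v⁻¹ * (v * n * v⁻¹) * v := by group
        _ = 1 := by rw [h5]; group
    · rw [h5] at h3; exact absurd h3 hvt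
    · exact h5
    · rw [h5, cm, hnc0, hv0t, mul_assoc, hEs n hnE, mul_one] at h3
      exact absurd h3 ht_tn
  have hact : ∀ y : G, y * n * y⁻¹ = n → (∀ a ∈ E, y * a * y⁻¹ ∈ E) → y * t * y⁻¹ = t ∨ y * t * y⁻¹ = t * n := by
    intro y hyn hyE
    rcases hmem _ (hyE t ht) with h5 | h5 | h5 | h5
    · exfalso; apply ht1
      calc t = y⁻¹ * (y * t * y⁻¹) * y := by group
        _ = 1 := by rw [h5]; group
    · exact Or.inl h5
    · exact absurd (conj_inj (h5.trans hyn.symm)) htn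
    · exact Or.inr h5
  have hswap : ∀ y : G, (y * t * y⁻¹ = t ∨ y * t * y⁻¹ = t * n) → (t * y * t⁻¹ = y ∨ t * y * t⁻¹ = n * y) := by
    rintro y (h5 | h5)
    · left
      rw [comm_iff] at h5 ⊢
      exact h5.symm
    · right
      have h6 : y * t = t * n * y := by rw [← h5]; group
      calc t * y * t⁻¹ = t * (y * t) := by rw [hEinv t ht, mul_assoc]
        _ = (t * t) * n * y := by rw [h6]; group
        _ = n * y := by rw [hEs t ht, one_mul]
  -- `n` is 2-central, with a Sylow subgroup normalising `E`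
  obtain ⟨p, hp, hpV⟩ := hF
  obtain ⟨ρ, hstd⟩ := hp.exists_std S h.star₁.le
    (fun i => ((hle.trans (zc_le _)).trans (h.star₁.isLoc.o2_le S)) (hpV ▸ subset_closure (Set.mem_range_self i)))
    (fun y hy => hpV ▸ zc_le_zl _ _ hy)
  have hs : (p ∘ ρ) 4 ∈ zc (S : Subgroup G) :=
    mem_zc.2 ⟨hstd.mem 4, fun b hb => comm_iff.1 (hstd.fix b hb), by rw [sq]; exact hstd.sq 4⟩
  obtain ⟨g, hg, hgn⟩ := exists_conj_eq hG S h.star₂ h4 hstd.zc4 (hstd.ne 4) hs
    (w := x⁻¹ * n * x) (mem_csmul.1 (hE ▸ hnE)) (fun e => hn1 (by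
      calc n = x * (x⁻¹ * n * x) * x⁻¹ := by group
        _ = 1 := by rw [e]; group))
  have hn' : (x * g) * (p ∘ ρ) 4 * (x * g)⁻¹ = n := by
    rw [← cc, hgn]; group
  obtain ⟨T₀, hT₀⟩ : ∃ T₀ : Sylow 2 G, T₀ = (x * g) • S := ⟨_, rfl⟩
  have hT₀n : ∀ y ∈ (T₀ : Subgroup G), y * n * y⁻¹ = n := by
    intro y hy
    rw [hT₀, mem_smul] at hy
    have h5 := hstd.fix _ hy
    calc y * n * y⁻¹ = (x * g) * (((x * g)⁻¹ * y * (x * g)) * (p ∘ ρ) 4 * ((x * g)⁻¹ * y * (x * g))⁻¹) * (x * g)⁻¹ := by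
            rw [← hn']; group
      _ = n := by rw [h5, hn']
  have hT₀E : ∀ y ∈ (T₀ : Subgroup G), ∀ a ∈ E, y * a * y⁻¹ ∈ E := by
    intro y hy a ha
    rw [hT₀, mem_smul] at hy
    rw [hE, mem_csmul] at ha ⊢
    have h5 : g * ((x * g)⁻¹ * y * (x * g)) * g⁻¹ ∈ P₂ :=
      mul_mem (mul_mem hg (h.star₂.le hy)) (inv_mem hg)
    have h6 := (mem_normalizer_iff.1 (le_normalizer_zl _ _ h5) _).1 ha
    have e : g * ((x * g)⁻¹ * y * (x * g)) * g⁻¹ * (x⁻¹ * a * x) * (g * ((x * g)⁻¹ * y * (x * g)) * g⁻¹)⁻¹ =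
        x⁻¹ * (y * a * y⁻¹) * x := by group
    rwa [e] at h6
  refine ⟨t, n, h2 ht, MinSimple.Basic.isPGroup_zpowers (by rw [sq]; exact hEs t ht), ?_, ⟨v0, hv0, ?_⟩, ?_,
    ⟨T₀, hT₀n⟩, ?_⟩
  · intro v hv
    exact hswap v (hact v (hVn v hv) (hVE v hv))
  · intro e
    rw [comm_iff] at e
    exact hvt (comm_iff.2 e.symm)
  · rw [comm_iff]; exact hEc t ht n hnE
  · intro q hq
    have hqT : q ∈ (T₀ : Subgroup G) := by
      refine o2_le_of_sylow T₀.isPGroup' (MinSimple.Basic.not_dvd_relIndex T₀ (X := centralizer ({n} : Set G)) ?_) hq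
      exact fun y hy => mem_cent.2 (hT₀n y hy)
    exact hswap q (hact q (hT₀n q hqT) (hT₀E q hqT))

/-- **(F3), natural `SL₂(2)` against a transposition of `S₅`.** -/
theorem exit_nat [Finite G] (hG : IsCharacteristicTwoType G) (S : Sylow 2 G) {P P₂ : Subgroup G} {x : G}
    (h : Mutual (S : Subgroup G) P P₂ x) (hF : TypeFive (S : Subgroup G) P)
    (h4 : Nat.card (zl (S : Subgroup G) P₂) = 4) : Exit (S : Subgroup G) := by
  obtain ⟨t, n, ht⟩ := exists_tw_nat hG S h hF h4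
  exact ht.exit hG S h.star₁ hF

end Cfsg.Agent.Omega.NTwo

end

section


/-!
# Exit N2: mutual pairs of type T-T with 2-central `n` (text bb OMEGA 12859, helper690; HALF LEMMA, helper7)

Two modules `V = V_P`, `V' = (V_{P₂})^x` of type `S₅`, `P₂ ≠ P` allowed.
-/

set_option autoImplicit false

namespace Cfsg.Agent.Omega.NTwo

open Subgroup Cfsg Cfsg.Agent.ZN Cfsg.Agent.MinSimple.VModule Pointwise
open Cfsg.Agent.MinSimple.MinParabolic Cfsg.Agent.MinSimple.Basic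
open Cfsg.Agent.Omega.Half (exists_sylow_le)
open Cfsg.Agent.Omega.MinPar (IsPar IsParS IsLoc NonLoc isLoc_of_le_normalizer)
open scoped commutatorElement

universe u

variable {G : Type u} [Group G]

/-- the group `{1, a, b, ab}` -/
def kl (a b : G) (ha : a * a = 1) (hb : b * b = 1) (hab : a * b = b * a) : Subgroup G where
  carrier := {x | x = 1 ∨ x = a ∨ x = b ∨ x = a * b}
  one_mem' := Or.inl rfl
  mul_mem' := by
    have h1 : a * (a * b) = b := by rw [← mul_assoc, ha, one_mul]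
    have h2 : b * (a * b) = a := by rw [hab, ← mul_assoc, hb, one_mul]
    have h3 : a * b * a = b := by rw [hab, mul_assoc, ha, mul_one]
    have h4 : a * b * b = a := by rw [mul_assoc, hb, mul_one]
    have h5 : a * b * (a * b) = 1 := by rw [mul_assoc, h2, ha]
    rintro x y (rfl | rfl | rfl | rfl) (rfl | rfl | rfl | rfl) <;>
      simp only [Set.mem_ofPred_eq, one_mul, mul_one, ha, hb, h1, h2, h3, h4, h5, ← hab, true_or, or_true]
  inv_mem' := by
    have ha' : a⁻¹ = a := inv_eq_of_mul_eq_one_left ha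
    have hb' : b⁻¹ = b := inv_eq_of_mul_eq_one_left hb
    rintro x (rfl | rfl | rfl | rfl)
    · left; exact inv_one
    · right; left; exact ha'
    · right; right; left; exact hb'
    · right; right; right
      rw [mul_inv_rev, ha', hb', hab]

theorem mem_kl {a b : G} {ha : a * a = 1} {hb : b * b = 1} {hab : a * b = b * a} {x : G} :
    x ∈ kl a b ha hb hab ↔ x = 1 ∨ x = a ∨ x = b ∨ x = a * b := Iff.rfl

section

variable [Finite G] (hG : IsCharacteristicTwoType G) (S : Sylow 2 G) {P : Subgroup G} {p : Fin 5 → G}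
  (h : Std (S : Subgroup G) P p)
include hG h

/-- **HALF LEMMA for `S₅`.** -/
theorem half_five : ∀ q ∈ o2 (centralizer ({nn p} : Set G)), q * (p 2 * p 3) * q⁻¹ = p 2 * p 3 ∧
    q * (p 3 * p 4) * q⁻¹ = p 3 * p 4 := by
  have hp2 : Fact (Nat.Prime 2) := ⟨Nat.prime_two⟩
  have ha : (p 2 * p 3) * (p 2 * p 3) = 1 := h.asq
  have hb : (p 3 * p 4) * (p 3 * p 4) = 1 := by
    rw [mul_assoc, ← mul_assoc (p 4), h.comm 4 3, mul_assoc (p 3), h.sq, mul_one, h.sq]
  have habe : (p 2 * p 3) * (p 3 * p 4) = p 2 * p 4 := by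
    rw [mul_assoc, ← mul_assoc (p 3), h.sq, one_mul]
  have hab : (p 2 * p 3) * (p 3 * p 4) = (p 3 * p 4) * (p 2 * p 3) := by
    rw [habe, h.comm 3 4, h.comm 2 3, mul_assoc, ← mul_assoc (p 3), h.sq, one_mul, h.comm]
  obtain ⟨V, hV⟩ : ∃ V : Subgroup G, V = kl _ _ ha hb hab := ⟨_, rfl⟩
  have hVm : ∀ x, x ∈ V ↔ x = 1 ∨ x = p 2 * p 3 ∨ x = p 3 * p 4 ∨ x = p 2 * p 4 := by
    intro x
    rw [hV, mem_kl, habe]
  obtain ⟨L, hL⟩ : ∃ L : Subgroup G, L = P ⊓ centralizer ({nn p} : Set G) := ⟨_, rfl⟩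
  have hLm : ∀ g, g ∈ L ↔ g ∈ P ∧ g * nn p * g⁻¹ = nn p := fun g => by rw [hL, mem_inf, mem_cent]
  have hTL : Std.T (S : Subgroup G) p ≤ L := fun x hx => by
    obtain ⟨h1, h2⟩ := Std.mem_T.1 hx
    exact (hLm x).2 ⟨h.le h1, h2⟩
  have hVcomm : ∀ a ∈ V, ∀ b ∈ V, a * b = b * a := by
    have key : ∀ i j k l : Fin 5, (p i * p j) * (p k * p l) = (p k * p l) * (p i * p j) := by
      intro i j k l
      have h1 : ∀ m, p m * (p k * p l) = (p k * p l) * p m := fun m => by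
        rw [← mul_assoc, h.comm m k, mul_assoc, h.comm m l, mul_assoc]
      rw [mul_assoc, h1 j, ← mul_assoc, h1 i, mul_assoc]
    intro a ha b hb
    rw [hVm] at ha hb
    rcases ha with rfl | rfl | rfl | rfl <;> rcases hb with rfl | rfl | rfl | rfl <;>
      first | exact key _ _ _ _ | simp only [one_mul, mul_one]
  have hVsq : ∀ a ∈ V, a ^ 2 = 1 := by
    have key : ∀ i j : Fin 5, (p i * p j) * (p i * p j) = 1 := fun i j => by
      rw [mul_assoc, ← mul_assoc (p j), h.comm j i, mul_assoc (p i), h.sq, mul_one, h.sq]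
    intro a ha
    rw [hVm] at ha
    rw [sq]
    rcases ha with rfl | rfl | rfl | rfl
    · simp
    all_goals exact key _ _
  -- permutations of elements of `L`
  have hLperm : ∀ g ∈ L, ∃ σ : Equiv.Perm (Fin 5), (∀ i, g * p i * g⁻¹ = p (σ i)) ∧
      ((σ 0 = 0 ∧ σ 1 = 1) ∨ (σ 0 = 1 ∧ σ 1 = 0)) := by
    intro g hg
    obtain ⟨h1, h2⟩ := (hLm g).1 hg
    obtain ⟨σ, hσ⟩ := h.perm g h1
    refine ⟨σ, hσ, ?_⟩
    rw [cm, hσ, hσ] at h2
    exact h.pair_inj (fun e => absurd (σ.injective e) (by decide)) (by decide) h2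
  have hVpair : ∀ i j : Fin 5, i ≠ 0 → i ≠ 1 → j ≠ 0 → j ≠ 1 → p i * p j ∈ V := by
    have key : ∀ i : Fin 5, i ≠ 0 → i ≠ 1 → i = 2 ∨ i = 3 ∨ i = 4 := by decide
    intro i j hi0 hi1 hj0 hj1
    rw [hVm]
    rcases key i hi0 hi1 with rfl | rfl | rfl <;> rcases key j hj0 hj1 with rfl | rfl | rfl
    · left; exact h.sq _
    · right; left; rfl
    · right; right; right; rfl
    · right; left; exact h.comm _ _
    · left; exact h.sq _
    · right; right; left; rfl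
    · right; right; right; exact h.comm _ _
    · right; right; left; exact h.comm _ _
    · left; exact h.sq _
  have hLV : L ≤ normalizer (V : Set G) := by
    have key : ∀ g ∈ L, ∀ v ∈ V, g * v * g⁻¹ ∈ V := by
      intro g hg v hv
      obtain ⟨σ, hσ, h1⟩ := hLperm g hg
      have h2 : ∀ i : Fin 5, i ≠ 0 → i ≠ 1 → σ i ≠ 0 ∧ σ i ≠ 1 := by
        intro i hi0 hi1
        rcases h1 with ⟨e1, e2⟩ | ⟨e1, e2⟩
        · exact ⟨fun e => hi0 (σ.injective (e.trans e1.symm)), fun e => hi1 (σ.injective (e.trans e2.symm))⟩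
        · exact ⟨fun e => hi1 (σ.injective (e.trans e2.symm)), fun e => hi0 (σ.injective (e.trans e1.symm))⟩
      have h3 : ∀ i j : Fin 5, i ≠ 0 → i ≠ 1 → j ≠ 0 → j ≠ 1 → g * (p i * p j) * g⁻¹ ∈ V := by
        intro i j hi0 hi1 hj0 hj1
        rw [cm, hσ, hσ]
        exact hVpair _ _ (h2 i hi0 hi1).1 (h2 i hi0 hi1).2 (h2 j hj0 hj1).1 (h2 j hj0 hj1).2
      rcases (hVm v).1 hv with rfl | rfl | rfl | rfl
      · simp
      all_goals exact h3 _ _ (by decide) (by decide) (by decide) (by decide)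
    intro g hg
    rw [mem_normalizer_iff]
    refine fun v => ⟨key g hg v, fun hv => ?_⟩
    have := key g⁻¹ (inv_mem hg) _ hv
    have e : g⁻¹ * (g * v * g⁻¹) * g⁻¹⁻¹ = v := by group
    rwa [e] at this
  -- the 3-cycle `(2 3 4)`
  obtain ⟨c, hcP, hc⟩ := h.full (Equiv.swap (2 : Fin 5) 3 * Equiv.swap 3 4)
  have hc0 : c * p 0 * c⁻¹ = p 0 := hc 0
  have hc1 : c * p 1 * c⁻¹ = p 1 := hc 1
  have hc2 : c * p 2 * c⁻¹ = p 3 := hc 2
  have hc3 : c * p 3 * c⁻¹ = p 4 := hc 3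
  have hc4 : c * p 4 * c⁻¹ = p 2 := hc 4
  have hcL : c ∈ L := (hLm c).2 ⟨hcP, by rw [nn, cm, hc0, hc1]⟩
  have hca : c * (p 2 * p 3) * c⁻¹ = p 3 * p 4 := by rw [cm, hc2, hc3]
  have hcb : c * (p 3 * p 4) * c⁻¹ = p 2 * p 4 := by rw [cm, hc3, hc4, h.comm]
  have hcab : c * (p 2 * p 4) * c⁻¹ = p 2 * p 3 := by rw [cm, hc2, hc4, h.comm]
  -- `T` is a Sylow subgroup of `L`
  have hSyl : ¬ 2 ∣ (Std.T (S : Subgroup G) p).relIndex L := by
    intro hdvd
    obtain ⟨R, hTR, hRL, hR2, hRS⟩ := exists_sylow_le (S.isPGroup'.to_le (Std.T_le (S := (S : Subgroup G)) (p := p))) hTL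
    obtain ⟨g, hg, hRg, -⟩ := exists_conj_le' S h.le hR2 (fun x hx => ((hLm x).1 (hRL hx)).1)
    have hne : R ≠ Std.T (S : Subgroup G) p := by
      rintro rfl
      exact hRS hdvd
    have hlt : Nat.card (Std.T (S : Subgroup G) p) < Nat.card R := by
      rcases lt_or_eq_of_le (card_le_of_le hTR) with h1 | h1
      · exact h1
      · exact absurd (eq_of_le_of_card_ge hTR h1.ge).symm hne
    have hdiv : Nat.card (Std.T (S : Subgroup G) p) ∣ Nat.card R := card_dvd_of_le hTR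
    have hge : 2 * Nat.card (Std.T (S : Subgroup G) p) ≤ Nat.card R := by
      obtain ⟨k, hk⟩ := hdiv
      have hpos : 0 < Nat.card (Std.T (S : Subgroup G) p) := Nat.card_pos
      have hk2 : 2 ≤ k := by
        by_contra hk2
        have : k = 0 ∨ k = 1 := by omega
        rcases this with rfl | rfl <;> simp at hk <;> omega
      rw [hk, mul_comm]
      exact Nat.mul_le_mul_left _ hk2
    have hcS : Nat.card ((g • S : Sylow 2 G) : Subgroup G) = Nat.card (S : Subgroup G) :=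
      Nat.card_congr (Sylow.equiv (g • S) S).toEquiv
    have hReq : R = ((g • S : Sylow 2 G) : Subgroup G) :=
      eq_of_le_of_card_ge hRg (by rw [hcS, h.card_S]; exact hge)
    -- `S` centralises `g⁻¹ n g`
    obtain ⟨σ, hσ⟩ := h.perm g⁻¹ (inv_mem hg)
    have h1 : g⁻¹ * nn p * g⁻¹⁻¹ = p (σ 0) * p (σ 1) := by rw [nn, cm, hσ, hσ]
    have hσ01 : σ 0 ≠ σ 1 := fun e => absurd (σ.injective e) (by decide)
    have h2 : p (σ 0) * p (σ 1) ∈ zc (S : Subgroup G) := by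
      refine mem_zc.2 ⟨mul_mem (h.mem _) (h.mem _), fun b hb => ?_, ?_⟩
      · rw [← comm_iff, ← h1]
        have h3 : g * b * g⁻¹ ∈ R := by
          rw [hReq, mem_smul]
          have e : g⁻¹ * (g * b * g⁻¹) * g = b := by group
          rwa [e]
        have h4 := ((hLm _).1 (hRL h3)).2
        calc b * (g⁻¹ * nn p * g⁻¹⁻¹) * b⁻¹ = g⁻¹ * ((g * b * g⁻¹) * nn p * (g * b * g⁻¹)⁻¹) * g⁻¹⁻¹ := by group
          _ = g⁻¹ * nn p * g⁻¹⁻¹ := by rw [h4]
      · rw [sq, mul_assoc, ← mul_assoc (p (σ 1)), h.comm (σ 1) (σ 0), mul_assoc (p (σ 0)), h.sq, mul_one, h.sq]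
    rcases h.zc4 _ h2 with h3 | h3
    · exact h.mul_ne_one hσ01 h3
    · exact h.mul_ne hσ01 4 h3
  have hO : o2 L ≤ centralizer (V : Set G) := by
    intro g hg
    have hgT := o2_le_of_sylow (S.isPGroup'.to_le (Std.T_le (S := (S : Subgroup G)) (p := p))) hSyl hg
    have hgL := hTL hgT
    obtain ⟨σ, hσ, h1⟩ := hLperm g hgL
    have h4 : σ 4 = 4 := by
      have := h.fix g (Std.T_le hgT)
      rw [hσ] at this
      exact h.inj this
    have h3 : σ 3 = 3 := by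
      have h5 : c * g * c⁻¹ ∈ o2 L := (mem_normalizer_iff.1 (le_normalizer_o2 L hcL) g).1 hg
      have h6 := o2_le_of_sylow (S.isPGroup'.to_le (Std.T_le (S := (S : Subgroup G)) (p := p))) hSyl h5
      have h7 := h.fix _ (Std.T_le h6)
      have h8 : c * g * c⁻¹ * p 4 * (c * g * c⁻¹)⁻¹ = c * p (σ 3) * c⁻¹ := by
        rw [← hσ, ← hc3]; group
      rw [h8, ← hc3] at h7
      exact h.inj (conj_inj h7)
    have h2 : σ 2 = 2 := by
      have : ∀ σ : Equiv.Perm (Fin 5), ((σ 0 = 0 ∧ σ 1 = 1) ∨ (σ 0 = 1 ∧ σ 1 = 0)) → σ 4 = 4 → σ 3 = 3 → σ 2 = 2 := by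
        decide +kernel
      exact this σ h1 h4 h3
    rw [mem_centralizer_iff]
    intro v hv
    symm
    rw [← comm_iff]
    rcases (hVm v).1 hv with rfl | rfl | rfl | rfl
    · simp
    · rw [cm, hσ, hσ, h2, h3]
    · rw [cm, hσ, hσ, h3, h4]
    · rw [cm, hσ, hσ, h2, h4]
  have hnt : V ⊓ centralizer (L : Set G) = ⊥ := by
    rw [eq_bot_iff]
    rintro v ⟨hv, hvL⟩
    rw [mem_bot]
    have h1 : c * v * c⁻¹ = v := comm_iff.2 (mem_centralizer_iff.1 hvL c hcL)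
    rcases (hVm v).1 hv with rfl | rfl | rfl | rfl
    · rfl
    · rw [hca] at h1
      rcases h.pair_inj (by decide) (by decide) h1 with ⟨e, e'⟩ | ⟨e, e'⟩ <;> exfalso <;> revert e e' <;> decide
    · rw [hcb] at h1
      rcases h.pair_inj (by decide) (by decide) h1 with ⟨e, e'⟩ | ⟨e, e'⟩ <;> exfalso <;> revert e e' <;> decide
    · rw [hcab] at h1
      rcases h.pair_inj (by decide) (by decide) h1 with ⟨e, e'⟩ | ⟨e, e'⟩ <;> exfalso <;> revert e e' <;> decide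
  have hirr : ∀ X : Subgroup G, X ≤ V → L ≤ normalizer (X : Set G) → X = ⊥ ∨ X = V := by
    intro X hXV hXL
    by_cases hX : X = ⊥
    · exact Or.inl hX
    right
    refine le_antisymm hXV ?_
    obtain ⟨⟨x, hx⟩, hx1'⟩ := ne_bot_iff_exists_ne_one.1 hX
    have hx1 : x ≠ 1 := fun e => hx1' (Subtype.ext e)
    have hcX : ∀ y ∈ X, c * y * c⁻¹ ∈ X := fun y hy => (mem_normalizer_iff.1 (hXL hcL) y).1 hy
    have hall : p 2 * p 3 ∈ X ∧ p 3 * p 4 ∈ X ∧ p 2 * p 4 ∈ X := by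
      rcases (hVm x).1 (hXV hx) with rfl | rfl | rfl | rfl
      · exact absurd rfl hx1
      · have h1 := hcX _ hx
        rw [hca] at h1
        have h2 := hcX _ h1
        rw [hcb] at h2
        exact ⟨hx, h1, h2⟩
      · have h1 := hcX _ hx
        rw [hcb] at h1
        have h2 := hcX _ h1
        rw [hcab] at h2
        exact ⟨h2, hx, h1⟩
      · have h1 := hcX _ hx
        rw [hcab] at h1
        have h2 := hcX _ h1
        rw [hca] at h2
        exact ⟨h1, h2, hx⟩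
    intro v hv
    rcases (hVm v).1 hv with rfl | rfl | rfl | rfl
    · exact one_mem _
    · exact hall.1
    · exact hall.2.1
    · exact hall.2.2
  have hcard : Nat.card (zc (S : Subgroup G)) ≤
      Nat.card (V ⊓ centralizer ((Std.T (S : Subgroup G) p : Subgroup G) : Set G) : Subgroup G) := by
    classical
    have h1 : ((zc (S : Subgroup G) : Subgroup G) : Set G) ⊆ (({1, p 4} : Finset G) : Set G) := by
      intro x hx
      rcases h.zc4 x hx with rfl | rfl <;> simp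
    have h2 := (Set.ncard_le_ncard h1 (Set.toFinite _)).trans ((Set.ncard_coe_finset _).le.trans Finset.card_le_two)
    have h3 : (({1, p 2 * p 3} : Finset G) : Set G) ⊆
        ((V ⊓ centralizer ((Std.T (S : Subgroup G) p : Subgroup G) : Set G) : Subgroup G) : Set G) := by
      intro x hx
      simp only [Finset.coe_insert, Finset.coe_singleton, Set.mem_insert_iff, Set.mem_singleton_iff] at hx
      rcases hx with rfl | rfl
      · exact one_mem _
      · refine ⟨(hVm _).2 (Or.inr (Or.inl rfl)), mem_centralizer_iff.2 fun y hy => comm_iff.1 (h.T_a hy)⟩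
    have h4 := Set.ncard_le_ncard h3 (Set.toFinite _)
    rw [Set.ncard_coe_finset, Finset.card_insert_of_notMem, Finset.card_singleton] at h4
    · exact h2.trans h4
    · rw [Finset.mem_singleton]
      exact h.a_ne_one.symm
  have hH : centralizer ({nn p} : Set G) ⊓ centralizer (o2 (centralizer ({nn p} : Set G)) : Set G) ≤
      o2 (centralizer ({nn p} : Set G)) :=
    char2_centralizer hG (by rw [sq]; exact h.nsq) h.n_ne_one
  have hVT : V ≤ Std.T (S : Subgroup G) p := by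
    have key : ∀ i j : Fin 5, p i * p j ∈ Std.T (S : Subgroup G) p := by
      intro i j
      refine Std.mem_T.2 ⟨mul_mem (h.mem i) (h.mem j), ?_⟩
      have h1 : ∀ m, p m * nn p = nn p * p m := fun m => by
        rw [nn, ← mul_assoc, h.comm m 0, mul_assoc, h.comm m 1, mul_assoc]
      rw [comm_iff, mul_assoc, h1 j, ← mul_assoc, h1 i, mul_assoc]
    intro v hv
    rcases (hVm v).1 hv with rfl | rfl | rfl | rfl
    · exact one_mem _
    all_goals exact key _ _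
  have hfin := Half.half S (So := Std.T (S : Subgroup G) p) (L := L) (H := centralizer ({nn p} : Set G)) (V := V)
    (z := nn p) Std.T_le h.card_S h.n_ne_one (by rw [sq]; exact h.nsq) (Std.mem_T.2 ⟨h.n_mem, by group⟩)
    (fun x hx => comm_iff.1 (mem_cent.1 hx)) hH hTL (fun x hx => mem_cent.2 ((hLm x).1 hx).2) hSyl hVT hLV hVcomm hVsq
    hirr hnt hO hcard
  intro q hq
  have h1 := mem_centralizer_iff.1 (hfin.2 hq)
  exact ⟨comm_iff.2 (h1 _ ((hVm _).2 (Or.inr (Or.inl rfl)))).symm,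
    comm_iff.2 (h1 _ ((hVm _).2 (Or.inr (Or.inr (Or.inl rfl))))).symm⟩

/-- `O₂(C(n))` acts on `V` through `⟨(0 1)⟩`, `n` 2-central. -/
theorem act_five (T₀ : Sylow 2 G) (hT₀ : ∀ x ∈ (T₀ : Subgroup G), x * nn p * x⁻¹ = nn p) :
    ∀ q ∈ o2 (centralizer ({nn p} : Set G)), ∀ v ∈ closure (Set.range p), q * v * q⁻¹ = v ∨ q * v * q⁻¹ = nn p * v := by
  have hp2 : Fact (Nat.Prime 2) := ⟨Nat.prime_two⟩
  intro q hq
  obtain ⟨hqa, hqb⟩ := half_five hG S h q hq
  have hqn : q * nn p * q⁻¹ = nn p := mem_cent.1 (o2_le _ hq)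
  have hq4 : q * p 4 * q⁻¹ = p 4 := by
    rw [← h.na, cm, hqn]
    change nn p * (q * (p 2 * p 3) * q⁻¹) = _
    rw [hqa]
  have hTn : Std.T (S : Subgroup G) p ≤ centralizer ({nn p} : Set G) := inf_le_right
  have hT2 : IsPGroup 2 (Std.T (S : Subgroup G) p) := S.isPGroup'.to_le Std.T_le
  obtain ⟨T₁, hTT₁, hT₁⟩ := exists_conj_le T₀ (fun x hx => mem_cent.2 (hT₀ x hx)) hT2 hTn
  have hqT₁ : q ∈ (T₁ : Subgroup G) := o2_le_of_sylow T₁.isPGroup' (not_dvd_relIndex T₁ hT₁) hq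
  -- `q ∈ T`
  have hqT : q ∈ Std.T (S : Subgroup G) p := by
    by_contra hqT
    refine not_cent S h T₁ hTT₁ hT₁ fun x hx => ?_
    by_cases hxT : x ∈ Std.T (S : Subgroup G) p
    · exact h.fix x (Std.T_le hxT)
    · have hcard : Nat.card (T₁ : Subgroup G) = 2 * Nat.card (Std.T (S : Subgroup G) p) := by
        rw [← h.card_S]
        exact Nat.card_congr (Sylow.equiv T₁ S).toEquiv
      have e : Nat.card ((Std.T (S : Subgroup G) p).subgroupOf (T₁ : Subgroup G)) = Nat.card (Std.T (S : Subgroup G) p) :=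
        Nat.card_congr (subgroupOfEquivOfLe hTT₁).toEquiv
      have h1 := card_mul_index ((Std.T (S : Subgroup G) p).subgroupOf (T₁ : Subgroup G))
      rw [e, hcard] at h1
      have h2 : ((Std.T (S : Subgroup G) p).subgroupOf (T₁ : Subgroup G)).index = 2 := by
        have h3 : 0 < Nat.card (Std.T (S : Subgroup G) p) := Nat.card_pos
        rw [mul_comm] at h1
        exact Nat.eq_of_mul_eq_mul_right h3 h1
      have h3 := mul_mem_iff_of_index_two h2 (a := (⟨q, hqT₁⟩ : (T₁ : Subgroup G))⁻¹) (b := ⟨x, hx⟩)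
      rw [inv_mem_iff] at h3
      have h4 := h3.mpr (iff_of_false (fun h => hqT (mem_subgroupOf.mp h)) (fun h => hxT (mem_subgroupOf.mp h)))
      have h5 : q⁻¹ * x ∈ Std.T (S : Subgroup G) p := mem_subgroupOf.mp h4
      have h6 := h.fix _ (Std.T_le h5)
      calc x * p 4 * x⁻¹ = q * ((q⁻¹ * x) * p 4 * (q⁻¹ * x)⁻¹) * q⁻¹ := by group
        _ = p 4 := by rw [h6, hq4]
  obtain ⟨σ, hσ⟩ := h.perm q (h.le (Std.T_le hqT))
  have h4 : σ 4 = 4 := by rw [hσ] at hq4; exact h.inj hq4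
  have h3 : σ 3 = 3 := by
    rw [cm, hσ, hσ, h4] at hqb
    exact h.inj (mul_right_cancel hqb)
  have h2 : σ 2 = 2 := by
    rw [cm, hσ, hσ, h3] at hqa
    exact h.inj (mul_right_cancel hqa)
  have h01 : (σ 0 = 0 ∧ σ 1 = 1) ∨ (σ 0 = 1 ∧ σ 1 = 0) := by
    rw [nn, cm, hσ, hσ] at hqn
    exact h.pair_inj (fun e => absurd (σ.injective e) (by decide)) (by decide) hqn
  have hgen : ∀ i, q * p i * q⁻¹ = p i ∨ q * p i * q⁻¹ = nn p * p i := by
    have e0 : nn p * p 0 = p 1 := by rw [nn, h.comm 0 1, mul_assoc, h.sq, mul_one]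
    have e1 : nn p * p 1 = p 0 := by rw [nn, mul_assoc, h.sq, mul_one]
    have key : ∀ i : Fin 5, i = 0 ∨ i = 1 ∨ i = 2 ∨ i = 3 ∨ i = 4 := by decide
    intro i
    rcases key i with rfl | rfl | rfl | rfl | rfl
    · rcases h01 with ⟨k0, k1⟩ | ⟨k0, k1⟩
      · left; rw [hσ, k0]
      · right; rw [hσ, k0, e0]
    · rcases h01 with ⟨k0, k1⟩ | ⟨k0, k1⟩
      · left; rw [hσ, k1]
      · right; rw [hσ, k1, e1]
    · left; rw [hσ, h2]
    · left; rw [hσ, h3]
    · left; rw [hσ, h4]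
  -- all of `V`
  have hnV : ∀ v ∈ closure (Set.range p), v * nn p = nn p * v := by
    intro v hv
    have h1 : closure (Set.range p) ≤ centralizer ({nn p} : Set G) := by
      rw [closure_le]
      rintro _ ⟨i, rfl⟩
      rw [SetLike.mem_coe, mem_centralizer_singleton_iff, nn, ← mul_assoc, h.comm i 0, mul_assoc, h.comm i 1, mul_assoc]
    exact mem_centralizer_singleton_iff.1 (h1 hv)
  intro v hv
  induction hv using closure_induction with
  | mem x hx => obtain ⟨i, rfl⟩ := hx; exact hgen i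
  | one => left; group
  | mul x y hx hy ihx ihy =>
    rw [cm]
    rcases ihx with k1 | k1 <;> rcases ihy with k2 | k2
    · left; rw [k1, k2]
    · right; rw [k1, k2, ← mul_assoc, hnV x hx, mul_assoc]
    · right; rw [k1, k2, mul_assoc]
    · left
      rw [k1, k2, mul_assoc, ← mul_assoc x, hnV x hx, mul_assoc (nn p), ← mul_assoc (nn p) (nn p), h.nsq, one_mul]
  | inv x hx ih =>
    rcases ih with k1 | k1
    · left
      calc q * x⁻¹ * q⁻¹ = (q * x * q⁻¹)⁻¹ := by group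
        _ = x⁻¹ := by rw [k1]
    · right
      have hninv : (nn p)⁻¹ = nn p := inv_eq_of_mul_eq_one_left h.nsq
      have hx' := hnV x⁻¹ (inv_mem hx)
      calc q * x⁻¹ * q⁻¹ = (q * x * q⁻¹)⁻¹ := by group
        _ = nn p * x⁻¹ := by rw [k1, mul_inv_rev, hninv, hx']

end

/-- **(F3), T-T with 2-central `n`**: `V = V_P`, `V' = (V_{P₂})^x` both of type `S₅`, `[V, V'] = ⟨n⟩`. -/
theorem exists_tw_tt [Finite G] (hG : IsCharacteristicTwoType G) (S : Sylow 2 G) {P P₂ : Subgroup G} {x : G}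
    (h : Mutual (S : Subgroup G) P P₂ x) (hF : TypeFive (S : Subgroup G) P) (hF₂ : TypeFive (S : Subgroup G) P₂)
    {n : G} (hT : ∀ v ∈ zl (S : Subgroup G) P, ∀ w ∈ MulAut.conj x • zl (S : Subgroup G) P₂,
      v * w * v⁻¹ = w ∨ v * w * v⁻¹ = n * w)
    (T₀ : Sylow 2 G) (hT₀ : ∀ y ∈ (T₀ : Subgroup G), y * n * y⁻¹ = n) : ∃ t, Tw (S : Subgroup G) P t n := by
  have hle : zl (S : Subgroup G) P ≤ zc (o2 P) := h.star₁.isLoc.zl_le S hG
  have hle₂ : zl (S : Subgroup G) P₂ ≤ zc (o2 P₂) := h.star₂.isLoc.zl_le S hG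
  obtain ⟨E, hE⟩ : ∃ E, E = MulAut.conj x • zl (S : Subgroup G) P₂ := ⟨_, rfl⟩
  rw [← hE] at hT
  have hEc : ∀ a ∈ E, ∀ b ∈ E, a * b = b * a := by
    intro a ha b hb
    rw [hE, mem_csmul] at ha hb
    have h1 := zc_comm _ _ (hle₂ ha) _ (hle₂ hb)
    calc a * b = x * ((x⁻¹ * a * x) * (x⁻¹ * b * x)) * x⁻¹ := by group
      _ = x * ((x⁻¹ * b * x) * (x⁻¹ * a * x)) * x⁻¹ := by rw [h1]
      _ = b * a := by group
  have hEs : ∀ a ∈ E, a * a = 1 := by
    intro a ha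
    rw [hE, mem_csmul] at ha
    have h1 := zc_sq _ _ (hle₂ ha)
    rw [sq] at h1
    calc a * a = x * ((x⁻¹ * a * x) * (x⁻¹ * a * x)) * x⁻¹ := by group
      _ = 1 := by rw [h1]; group
  have hVc : ∀ a ∈ zl (S : Subgroup G) P, ∀ b ∈ zl (S : Subgroup G) P, a * b = b * a := fun a ha b hb =>
    zc_comm _ _ (hle ha) _ (hle hb)
  have hVs : ∀ a ∈ zl (S : Subgroup G) P, a * a = 1 := fun a ha => by
    rw [← sq]; exact zc_sq _ _ (hle ha)
  have h1 : zl (S : Subgroup G) P ≤ normalizer (E : Set G) := hE ▸ h.le₁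
  have h2 : E ≤ normalizer (zl (S : Subgroup G) P : Set G) := hE ▸ h.le₂
  obtain ⟨v0, hv0, w0, hw0, hvw⟩ : ∃ v ∈ zl (S : Subgroup G) P, ∃ w ∈ E, v * w * v⁻¹ ≠ w := by
    by_contra hcon
    push Not at hcon
    apply h.ne
    rw [← hE, commutator_eq_bot_iff_le_centralizer]
    intro v hv
    rw [mem_centralizer_iff]
    intro t ht
    exact (comm_iff.1 (hcon v hv t ht)).symm
  have hn0 : v0 * w0 * v0⁻¹ = n * w0 := (hT v0 hv0 w0 hw0).resolve_left hvw
  have hn_eq : n = (v0 * w0 * v0⁻¹) * w0⁻¹ := by rw [hn0]; group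
  have hnE : n ∈ E := hn_eq ▸ mul_mem ((mem_normalizer_iff.1 (h1 hv0) w0).1 hw0) (inv_mem hw0)
  have hnV : n ∈ zl (S : Subgroup G) P := by
    have e : n = v0 * (w0 * v0⁻¹ * w0⁻¹) := by rw [hn_eq]; group
    rw [e]
    exact mul_mem hv0 ((mem_normalizer_iff.1 (h2 hw0) _).1 (inv_mem hv0))
  have hn1 : n ≠ 1 := fun e => hvw (by rw [hn0, e, one_mul])
  have hnn : n * n = 1 := hEs n hnE
  have hninv : n⁻¹ = n := inv_eq_of_mul_eq_one_left hnn
  -- a general commutator flip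
  have flip : ∀ y w : G, y * w * y⁻¹ = w ∨ y * w * y⁻¹ = n * w → w * y * w⁻¹ = y ∨ w * y * w⁻¹ = n * y := by
    rintro y w (h5 | h5)
    · left
      rw [comm_iff] at h5 ⊢
      exact h5.symm
    · right
      have h6 : y * w = n * w * y := by rw [← h5]; group
      have h7 : w * y = n * (y * w) := by rw [h6, ← mul_assoc, ← mul_assoc, hnn, one_mul]
      calc w * y * w⁻¹ = n * (y * w) * w⁻¹ := by rw [h7]
        _ = n * y := by group
  -- normal form on the side of `P₂`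
  have hv2 : x⁻¹ * v0 * x ∈ normalizer (zl (S : Subgroup G) P₂ : Set G) := by
    have h3 := h1 hv0
    rw [mem_normalizer_iff] at h3 ⊢
    intro y
    have h4 := h3 (x * y * x⁻¹)
    rw [hE, mem_csmul, mem_csmul] at h4
    have e1 : x⁻¹ * (x * y * x⁻¹) * x = y := by group
    have e2 : x⁻¹ * (v0 * (x * y * x⁻¹) * v0⁻¹) * x = x⁻¹ * v0 * x * y * (x⁻¹ * v0 * x)⁻¹ := by group
    rwa [e1, e2] at h4
  have hEx : ∀ w ∈ zl (S : Subgroup G) P₂, x * w * x⁻¹ ∈ E := fun w hw => hE ▸ csmul_mem hw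
  obtain ⟨c, hc, p, hstd, hpV, -, hcn, -⟩ := reduce hG S h.star₂ hF₂ (t := x⁻¹ * v0 * x) (n := x⁻¹ * n * x) hv2
    (isPGroup_zpowers (by
      rw [sq]
      calc x⁻¹ * v0 * x * (x⁻¹ * v0 * x) = x⁻¹ * (v0 * v0) * x := by group
        _ = 1 := by rw [hVs v0 hv0]; group)) (by
      intro w hw
      rcases hT v0 hv0 _ (hEx w hw) with h3 | h3
      · left
        calc x⁻¹ * v0 * x * w * (x⁻¹ * v0 * x)⁻¹ = x⁻¹ * (v0 * (x * w * x⁻¹) * v0⁻¹) * x := by group
          _ = w := by rw [h3]; group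
      · right
        calc x⁻¹ * v0 * x * w * (x⁻¹ * v0 * x)⁻¹ = x⁻¹ * (v0 * (x * w * x⁻¹) * v0⁻¹) * x := by group
          _ = x⁻¹ * n * x * w := by rw [h3]; group) ⟨x⁻¹ * w0 * x, by
            rw [hE, mem_csmul] at hw0; exact hw0, fun e => hvw (by
              calc v0 * w0 * v0⁻¹ = x * (x⁻¹ * v0 * x * (x⁻¹ * w0 * x) * (x⁻¹ * v0 * x)⁻¹) * x⁻¹ := by group
                _ = w0 := by rw [e]; group)⟩
  -- `k = c x⁻¹` maps `n` to `nn p`
  obtain ⟨k, hk⟩ : ∃ k, k = c * x⁻¹ := ⟨_, rfl⟩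
  have hkn : k * n * k⁻¹ = nn p := by rw [← hcn, hk]; group
  have hkE : ∀ w ∈ E, k * w * k⁻¹ ∈ closure (Set.range p) := by
    intro w hw
    rw [← hpV, hk]
    rw [hE, mem_csmul] at hw
    have h3 := (mem_normalizer_iff.1 hc _).1 hw
    have e : c * (x⁻¹ * w * x) * c⁻¹ = c * x⁻¹ * w * (c * x⁻¹)⁻¹ := by group
    rwa [e] at h3
  have hkT : ∀ y ∈ ((k • T₀ : Sylow 2 G) : Subgroup G), y * nn p * y⁻¹ = nn p := by
    intro y hy
    have h3 := hT₀ _ (mem_smul.1 hy)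
    calc y * nn p * y⁻¹ = k * ((k⁻¹ * y * k) * n * (k⁻¹ * y * k)⁻¹) * k⁻¹ := by rw [← hkn]; group
      _ = nn p := by rw [h3, hkn]
  have hact := act_five hG S hstd (k • T₀) hkT
  have hQ : ∀ q ∈ o2 (centralizer ({n} : Set G)), ∀ w ∈ E, q * w * q⁻¹ = w ∨ q * w * q⁻¹ = n * w := by
    intro q hq w hw
    have h3 : k * q * k⁻¹ ∈ o2 (centralizer ({nn p} : Set G)) := by
      have e1 : (o2 (centralizer ({n} : Set G))).map (MulAut.conj k).toMonoidHom =
          o2 ((centralizer ({n} : Set G)).map (MulAut.conj k).toMonoidHom) :=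
        (MinPar.o2_map_equiv (MulAut.conj k) _).symm
      have e2 : (centralizer ({n} : Set G)).map (MulAut.conj k).toMonoidHom = centralizer ({nn p} : Set G) := by
        ext y
        rw [mem_map_equiv, mem_cent, mem_cent]
        have : (MulAut.conj k).symm y = k⁻¹ * y * k := by
          rw [MulAut.conj_symm_apply]
        rw [this, ← hkn]
        constructor
        · intro h1
          calc y * (k * n * k⁻¹) * y⁻¹ = k * ((k⁻¹ * y * k) * n * (k⁻¹ * y * k)⁻¹) * k⁻¹ := by group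
            _ = k * n * k⁻¹ := by rw [h1]
        · intro h1
          calc (k⁻¹ * y * k) * n * (k⁻¹ * y * k)⁻¹ = k⁻¹ * (y * (k * n * k⁻¹) * y⁻¹) * k := by group
            _ = n := by rw [h1]; group
      rw [← e2, ← e1]
      exact ⟨q, hq, rfl⟩
    rcases hact _ h3 _ (hkE w hw) with h4 | h4
    · left
      calc q * w * q⁻¹ = k⁻¹ * (k * q * k⁻¹ * (k * w * k⁻¹) * (k * q * k⁻¹)⁻¹) * k := by group
        _ = w := by rw [h4]; group
    · right
      calc q * w * q⁻¹ = k⁻¹ * (k * q * k⁻¹ * (k * w * k⁻¹) * (k * q * k⁻¹)⁻¹) * k := by group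
        _ = k⁻¹ * (k * n * k⁻¹ * (k * w * k⁻¹)) * k := by rw [h4, hkn]
        _ = n * w := by group
  refine ⟨w0, h2 hw0, isPGroup_zpowers (by rw [sq]; exact hEs w0 hw0), ?_, ⟨v0, hv0, ?_⟩, ?_, ⟨T₀, hT₀⟩, ?_⟩
  · intro v hv
    exact flip v w0 (hT v hv w0 hw0)
  · intro e
    rw [comm_iff] at e
    exact hvw (comm_iff.2 e.symm)
  · rw [comm_iff]; exact hEc w0 hw0 n hnE
  · intro q hq
    exact flip q w0 (hQ q hq w0 hw0)

/-- **(F3), T-T with 2-central `n`**: `V = V_P`, `V' = (V_{P₂})^x` both of type `S₅`, `[V, V'] = ⟨n⟩`. -/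
theorem exit_tt [Finite G] (hG : IsCharacteristicTwoType G) (S : Sylow 2 G) {P P₂ : Subgroup G} {x : G}
    (h : Mutual (S : Subgroup G) P P₂ x) (hF : TypeFive (S : Subgroup G) P) (hF₂ : TypeFive (S : Subgroup G) P₂)
    {n : G} (hT : ∀ v ∈ zl (S : Subgroup G) P, ∀ w ∈ MulAut.conj x • zl (S : Subgroup G) P₂,
      v * w * v⁻¹ = w ∨ v * w * v⁻¹ = n * w)
    (T₀ : Sylow 2 G) (hT₀ : ∀ y ∈ (T₀ : Subgroup G), y * n * y⁻¹ = n) : Exit (S : Subgroup G) := by
  obtain ⟨t, ht⟩ := exists_tw_tt hG S h hF hF₂ hT T₀ hT₀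
  exact ht.exit hG S h.star₁ hF

end Cfsg.Agent.Omega.NTwo

end

section


/-!
# LeafF4, `m = 2`, `n` 2-central (bb OMEGA #16971 (0)): module theory of `S₅`

`M` an elementary abelian 2-group with an action of `Sym {0,..,4}`, `c : Fin 5 → M` the five points
(`c 0 + c 1 + c 2 + c 3 = c 4`), every vector fixed by the dihedral group `D8` (`01 | 23 | 4`) is fixed by `Sym` up to `c 4`.

* `Mo.stepK` : a vector fixed by `Sym {0,1} × Sym {2,3,4}` is fixed by `Sym` up to `c 0 + c 1`;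
* `Mo.key` : a vector fixed by `⟨(0 1), (2 3)⟩` is fixed by `D8` up to `c 0 + c 1`.
-/

set_option autoImplicit false

namespace Cfsg.Agent.Omega.F4Leaf.Cen.Mod

open Equiv
open Cfsg.Agent.Omega.NTwo (D8)

/-- `{0, 1}` is preserved -/
def Qs (σ : Perm (Fin 5)) : Prop := (σ 0 = 0 ∧ σ 1 = 1) ∨ (σ 0 = 1 ∧ σ 1 = 0)

instance (σ : Perm (Fin 5)) : Decidable (Qs σ) := inferInstanceAs (Decidable (_ ∨ _))

/-- `{0, 1}`, `{2, 3}`, `{4}` are preserved -/
def Rs (σ : Perm (Fin 5)) : Prop := Qs σ ∧ σ 4 = 4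

instance (σ : Perm (Fin 5)) : Decidable (Rs σ) := inferInstanceAs (Decidable (_ ∧ _))

/-- `i ↦ i + 2` -/
def ζ : Perm (Fin 5) := ⟨![2, 3, 4, 0, 1], ![3, 4, 0, 1, 2], by decide, by decide⟩

/-- `2 → 3 → 4 → 2` -/
def τ : Perm (Fin 5) := ⟨![0, 1, 3, 4, 2], ![0, 1, 4, 2, 3], by decide, by decide⟩

/-- `(0 2)(1 3)` -/
def χ : Perm (Fin 5) := ⟨![2, 3, 0, 1, 4], ![2, 3, 0, 1, 4], by decide, by decide⟩

/-- `(1 2)` -/
def κ : Perm (Fin 5) := ⟨![0, 2, 1, 3, 4], ![0, 2, 1, 3, 4], by decide, by decide⟩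

theorem ζ5 : ζ ^ 5 = 1 := by decide +kernel

theorem d_ζ : ∀ d ∈ D8, (Qs d ∧ Qs (ζ⁻¹ * d * ζ)) ∨ (Qs (ζ⁻¹ * d) ∧ Qs (d * ζ)) := by decide +kernel

theorem d_χ : ∀ d ∈ D8, (Rs d ∧ Rs (χ⁻¹ * d * χ)) ∨ (Rs (χ⁻¹ * d) ∧ Rs (d * χ)) := by decide +kernel

/-- the three Sylow-conjugating permutations -/
def al : Fin 4 → Perm (Fin 5) := ![1, swap 2 3, swap 2 4, swap 3 4]

theorem al_Qs : ∀ i, Qs (al i) := by decide +kernel

theorem gen : ∀ σ : Perm (Fin 5), ∃ i : Fin 4, ∃ k : Fin 5, Qs ((al i * ζ ^ (k : ℕ))⁻¹ * σ) := by decide +kernel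

theorem perm3 : ∀ σ : Perm (Fin 5), Qs σ → ∃ j : Perm (Fin 3), ∀ i : Fin 3,
    Rs ((τ ^ ((j i : Fin 3) : ℕ))⁻¹ * σ * τ ^ (i : ℕ)) := by decide +kernel

theorem rel1 : Rs ((τ * χ)⁻¹ * ζ ^ 4) := by decide +kernel
theorem rel2 : Rs ((κ * τ ^ 2 * χ)⁻¹ * (ζ ^ 2 * κ)) := by decide +kernel
theorem rel3 : Rs ((κ * τ * χ)⁻¹ * (ζ ^ 4 * τ ^ 2)) := by decide +kernel

section

variable {M : Type*} [AddCommGroup M] [DistribMulAction (Perm (Fin 5)) M]

/-- the module -/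
structure Mo (c : Fin 5 → M) : Prop where
  two : ∀ y : M, y + y = 0
  act : ∀ (σ : Perm (Fin 5)) (i : Fin 5), σ • c i = c (σ i)
  sum : c 0 + c 1 + (c 2 + c 3) = c 4
  fixed : ∀ y : M, (∀ d ∈ D8, d • y = y) →
    (∀ σ : Perm (Fin 5), σ • y = y) ∨ ∀ σ : Perm (Fin 5), σ • (y + c 4) = y + c 4

theorem smul_eq {P : Perm (Fin 5) → Prop} {b : M} (hb : ∀ σ, P σ → σ • b = b) {g k : Perm (Fin 5)}
    (h : P (k⁻¹ * g)) : g • b = k • b := by
  have h1 := hb _ h
  rw [mul_smul, inv_smul_eq_iff] at h1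
  exact h1

/-- the norm of `⟨ζ⟩` -/
def N (m : M) : M := m + ζ • m + ζ ^ 2 • m + ζ ^ 3 • m + ζ ^ 4 • m

theorem N_add (m m' : M) : N (m + m') = N m + N m' := by
  simp only [N, smul_add]
  abel

theorem N_ζ (m : M) : N (ζ • m) = N m := by
  simp only [N]
  rw [smul_smul, smul_smul, smul_smul, smul_smul, ← pow_succ, ← pow_succ, ← pow_succ, ← pow_two, ζ5, one_smul]
  abel

theorem N_pow (k : ℕ) (m : M) : N (ζ ^ k • m) = N m := by
  induction k with
  | zero => rw [pow_zero, one_smul]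
  | succ k ih => rw [pow_succ', mul_smul, N_ζ, ih]

namespace Mo

variable {c : Fin 5 → M} (h : Mo c)
include h

theorem N_fix {r : M} (hr : ∀ σ : Perm (Fin 5), σ • r = r) : N r = r := by
  simp only [N, hr]
  rw [h.two, zero_add, h.two, zero_add]

theorem five {r : M} (hr : ∀ σ : Perm (Fin 5), σ • (r + ζ • r) = r + ζ • r) : ζ • r = r := by
  have h1 := h.N_fix hr
  rw [N_add, N_ζ, h.two] at h1
  have h2 := h.two r
  calc ζ • r = (r + r) + ζ • r := by rw [h2, zero_add]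
    _ = r + (r + ζ • r) := by abel
    _ = r := by rw [← h1, add_zero]

omit h in
theorem all {r : M} (hr : ζ • r = r) (hQ : ∀ σ, Qs σ → σ • r = r) (σ : Perm (Fin 5)) : σ • r = r := by
  obtain ⟨i, k, h1⟩ := gen σ
  rw [smul_eq hQ h1, mul_smul]
  have h2 : ∀ k : ℕ, ζ ^ k • r = r := by
    intro k
    induction k with
    | zero => rw [pow_zero, one_smul]
    | succ k ih => rw [pow_succ, mul_smul, hr, ih]
  rw [h2, hQ _ (al_Qs i)]

theorem c01_Qs : ∀ σ, Qs σ → σ • (c 0 + c 1) = c 0 + c 1 := by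
  rintro σ (⟨h1, h2⟩ | ⟨h1, h2⟩)
  · rw [smul_add, h.act, h.act, h1, h2]
  · rw [smul_add, h.act, h.act, h1, h2, add_comm]

/-- a vector fixed by `Sym {0,1} × Sym {2,3,4}` -/
theorem stepK {y : M} (hy : ∀ σ, Qs σ → σ • y = y) :
    (∀ σ : Perm (Fin 5), σ • y = y) ∨ ∀ σ : Perm (Fin 5), σ • (y + (c 0 + c 1)) = y + (c 0 + c 1) := by
  have h1 : ∀ d ∈ D8, d • (y + ζ • y) = y + ζ • y := by
    intro d hd
    rcases d_ζ d hd with ⟨k1, k2⟩ | ⟨k1, k2⟩
    · have e1 := hy _ k1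
      have e2 := hy _ k2
      rw [mul_assoc, mul_smul, inv_smul_eq_iff, mul_smul] at e2
      rw [smul_add, e1, e2]
    · have e1 := hy _ k1
      have e2 := hy _ k2
      rw [mul_smul, inv_smul_eq_iff] at e1
      rw [mul_smul] at e2
      rw [smul_add, e1, e2, add_comm]
  rcases h.fixed _ h1 with h2 | h2
  · exact Or.inl (all (h.five h2) hy)
  · right
    have e : y + ζ • y + c 4 = (y + (c 0 + c 1)) + ζ • (y + (c 0 + c 1)) := by
      rw [smul_add, smul_add, h.act, h.act, ← h.sum]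
      change y + ζ • y + (c 0 + c 1 + (c 2 + c 3)) = y + (c 0 + c 1) + (ζ • y + (c 2 + c 3))
      abel
    rw [e] at h2
    refine all (h.five h2) fun σ hσ => ?_
    rw [smul_add, hy σ hσ, h.c01_Qs σ hσ]

theorem N_c (i : Fin 5) : N (c i) = 0 := by
  have key : N (c 0) = 0 := by
    have e1 : ζ • c 0 = c 2 := h.act _ _
    have e2 : ζ ^ 2 • c 0 = c 4 := h.act _ _
    have e3 : ζ ^ 3 • c 0 = c 1 := h.act _ _
    have e4 : ζ ^ 4 • c 0 = c 3 := h.act _ _
    rw [N, e1, e2, e3, e4]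
    calc c 0 + c 2 + c 4 + c 1 + c 3 = (c 0 + c 1 + (c 2 + c 3)) + c 4 := by abel
      _ = 0 := by rw [h.sum, h.two]
  have h2 : ∃ k : ℕ, c i = ζ ^ k • c 0 := by
    fin_cases i
    · exact ⟨0, by rw [pow_zero, one_smul]; rfl⟩
    · exact ⟨3, (h.act (ζ ^ 3) 0).symm⟩
    · exact ⟨1, by rw [pow_one]; exact (h.act ζ 0).symm⟩
    · exact ⟨4, (h.act (ζ ^ 4) 0).symm⟩
    · exact ⟨2, (h.act (ζ ^ 2) 0).symm⟩
  obtain ⟨k, hk⟩ := h2
  rw [hk, N_pow, key]

/-- the main step -/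
theorem main {b : M} (hb : ∀ σ, Rs σ → σ • b = b) (hv : ∀ σ : Perm (Fin 5), σ • (b + χ • b) = b + χ • b) :
    χ • b = b := by
  obtain ⟨v, hvd⟩ : ∃ v, v = b + χ • b := ⟨_, rfl⟩
  rw [← hvd] at hv
  have hχ : χ • b = b + v := by
    rw [hvd, ← add_assoc, h.two, zero_add]
  -- `y`
  obtain ⟨y, hyd⟩ : ∃ y, y = ∑ i : Fin 3, τ ^ (i : ℕ) • b := ⟨_, rfl⟩
  have hyQ : ∀ σ, Qs σ → σ • y = y := by
    intro σ hσ
    obtain ⟨j, hj⟩ := perm3 σ hσ
    have h1 : ∀ i : Fin 3, σ • τ ^ (i : ℕ) • b = τ ^ ((j i : Fin 3) : ℕ) • b := by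
      intro i
      rw [smul_smul]
      refine smul_eq hb ?_
      rw [← mul_assoc]
      exact hj i
    rw [hyd, Finset.smul_sum, Finset.sum_congr rfl fun i _ => h1 i]
    exact Equiv.sum_comp j fun i : Fin 3 => τ ^ (i : ℕ) • b
  have hy3 : y = b + τ • b + τ ^ 2 • b := by
    rw [hyd, Fin.sum_univ_three]
    simp
  obtain ⟨r, hr, hry⟩ : ∃ r : M, (∀ σ : Perm (Fin 5), σ • r = r) ∧ N y = r ∧ N (κ • y) = r := by
    rcases h.stepK hyQ with h1 | h1
    · exact ⟨y, h1, h.N_fix h1, by rw [h1, h.N_fix h1]⟩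
    · refine ⟨_, h1, ?_, ?_⟩
      · have h2 := h.N_fix h1
        rw [N_add, N_add, h.N_c, h.N_c, add_zero, add_zero] at h2
        exact h2
      · have h2 := h.N_fix h1
        rw [← h1 κ] at h2
        rw [smul_add, smul_add, h.act, h.act, N_add, N_add, h.N_c, h.N_c, add_zero, add_zero] at h2
        rw [h2]
        have h3 := h1 κ
        rw [smul_add, smul_add, h.act, h.act] at h3
        exact h3
  have hsum : N y + N (κ • y) = 0 := by rw [hry.1, hry.2, h.two]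
  have r1 : N b = N (τ • b) + v := by
    have h1 := smul_eq hb rel1
    rw [mul_smul, hχ, smul_add, hv] at h1
    rw [← N_pow 4 b, h1, N_add, h.N_fix hv]
  have r2 : N (κ • b) = N (κ • τ ^ 2 • b) + v := by
    have h1 := smul_eq hb rel2
    rw [mul_smul, mul_smul, hχ, mul_smul, smul_add, hv, smul_add, hv] at h1
    rw [← N_pow 2 (κ • b), h1, N_add, h.N_fix hv]
  have r3 : N (τ ^ 2 • b) = N (κ • τ • b) + v := by
    have h1 := smul_eq hb rel3
    rw [mul_smul, mul_smul, hχ, mul_smul, smul_add, hv, smul_add, hv] at h1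
    rw [← N_pow 4 (τ ^ 2 • b), h1, N_add, h.N_fix hv]
  have h3 : v = 0 := by
    rw [hy3, smul_add, smul_add, N_add, N_add, N_add, N_add, r1, r2, r3] at hsum
    have t1 := h.two (N (τ • b))
    have t2 := h.two (N (κ • τ • b))
    have t3 := h.two (N (κ • τ ^ 2 • b))
    have t4 := h.two v
    calc v = (N (τ • b) + v + N (τ • b) + (N (κ • τ • b) + v) +
          (N (κ • τ ^ 2 • b) + v + N (κ • τ • b) + N (κ • τ ^ 2 • b))) + ((N (τ • b) + N (τ • b)) +
          (N (κ • τ • b) + N (κ • τ • b)) + (N (κ • τ ^ 2 • b) + N (κ • τ ^ 2 • b)) + (v + v)) -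
          2 • ((N (τ • b) + N (τ • b)) + (N (κ • τ • b) + N (κ • τ • b)) +
          (N (κ • τ ^ 2 • b) + N (κ • τ ^ 2 • b))) - 2 • (v + v) := by abel
      _ = 0 := by rw [hsum, t1, t2, t3, t4]; simp
  rw [hχ, h3, add_zero]

/-- **A vector fixed by `⟨(0 1), (2 3)⟩` is fixed by `D8` up to `c 0 + c 1`.** -/
theorem key {b : M} (hb : ∀ σ, Rs σ → σ • b = b) :
    (∀ d ∈ D8, d • b = b) ∨ ∀ d ∈ D8, d • (b + (c 0 + c 1)) = b + (c 0 + c 1) := by
  have fin : ∀ {b : M}, (∀ σ, Rs σ → σ • b = b) → χ • b = b → ∀ d ∈ D8, d • b = b := by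
    intro b hb hχ d hd
    rcases d_χ d hd with ⟨k1, -⟩ | ⟨k1, -⟩
    · exact hb _ k1
    · rw [smul_eq hb k1, hχ]
  have h1 : ∀ d ∈ D8, d • (b + χ • b) = b + χ • b := by
    intro d hd
    rcases d_χ d hd with ⟨k1, k2⟩ | ⟨k1, k2⟩
    · have e1 := hb _ k1
      have e2 := hb _ k2
      rw [mul_assoc, mul_smul, inv_smul_eq_iff, mul_smul] at e2
      rw [smul_add, e1, e2]
    · have e1 := hb _ k1
      have e2 := hb _ k2
      rw [mul_smul, inv_smul_eq_iff] at e1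
      rw [mul_smul] at e2
      rw [smul_add, e1, e2, add_comm]
  rcases h.fixed _ h1 with h2 | h2
  · exact Or.inl (fin hb (h.main hb h2))
  · right
    have hb' : ∀ σ, Rs σ → σ • (b + (c 0 + c 1)) = b + (c 0 + c 1) := by
      intro σ hσ
      rw [smul_add, hb σ hσ, h.c01_Qs σ hσ.1]
    have e : b + χ • b + c 4 = (b + (c 0 + c 1)) + χ • (b + (c 0 + c 1)) := by
      rw [smul_add, smul_add, h.act, h.act, ← h.sum]
      change b + χ • b + (c 0 + c 1 + (c 2 + c 3)) = b + (c 0 + c 1) + (χ • b + (c 2 + c 3))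
      abel
    rw [e] at h2
    exact fin hb' (h.main hb' h2)

end Mo

end

end Cfsg.Agent.Omega.F4Leaf.Cen.Mod

end
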