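import Cfsg.Agent.Mrg.Omega.NTwo.Kill
import Cfsg.Agent.Mrg.Omega.S5.Pair


/-!
# OMEGA II.c, `m = 2`: the leaves `NatFive` and `TTCen` without the exit N2 (helper556)

The configurations of `S5.Main.NatFive` and `S5.Main.TTCen` do not occur (`false_nat`, `false_tt`).
-/

set_option autoImplicit false

namespace Cfsg.Agent.Omega.NTwo.Zero

open Subgroup Cfsg Cfsg.Agent.ZN Cfsg.Agent.ZN.ChoiceBase Cfsg.Agent.MinSimple.VModule Pointwise
open Cfsg.Agent.Omega.S5.Def Cfsg.Agent.Omega.S5.Main Cfsg.Agent.Omega.Frame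
open Cfsg.Agent.Omega.FrameLE (AllIn)
open Cfsg.Agent.Omega.S5.Types (TwoAct)
open Cfsg.Agent.Omega.S5
open Cfsg.Agent.Omega.S5.Syl
open scoped commutatorElement

universe u

section

variable {G : Type u} [Group G]

theorem single_sum_dec : (Pi.single 0 1 + Pi.single 1 1 + (Pi.single 2 1 + Pi.single 3 1) : Fin 5 → ZMod 2) =
    Pi.single 4 1 + 1 := by decide

/-- The five points of a labelled even-subset module. -/
theorem fv_of_even {V P : Subgroup G} {ε : (Fin 5 → ZMod 2) → G} (h : EvenSet 5 V P ε) :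
    Fv P (fun i => ε (Pi.single i 1)) ∧ V = closure (Set.range fun i => ε (Pi.single i 1)) := by
  refine ⟨⟨fun i => h.single_ne_one (by norm_num) i, fun i => h.sq _, fun i j => h.comm _ _,
    fun i j hij => h.single_inj (by norm_num) hij, ?_, ?_, ?_⟩, le_antisymm ?_ ?_⟩
  · rw [← h.add, ← h.add, ← h.add, h.eq_iff]
    exact Or.inr single_sum_dec
  · intro g hg
    obtain ⟨σ, hσ⟩ := h.perm g hg
    exact ⟨σ, fun i => hσ.single i⟩
  · intro σ
    obtain ⟨g, hg, hσ⟩ := h.full σ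
    exact ⟨g, hg, fun i => hσ.single i⟩
  · intro v hv
    obtain ⟨x, rfl⟩ := h.surj v hv
    have key : ∀ s : Finset (Fin 5), ε (∑ i ∈ s, Pi.single i (x i)) ∈
        closure (Set.range fun i => ε (Pi.single i 1)) := by
      intro s
      induction s using Finset.induction_on with
      | empty => rw [Finset.sum_empty, h.zero]; exact one_mem _
      | insert a s ha ih =>
        rw [Finset.sum_insert ha, h.add]
        refine mul_mem ?_ ih
        have h2 : ∀ z : ZMod 2, z = 0 ∨ z = 1 := by decide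
        rcases h2 (x a) with h3 | h3
        · rw [h3, Pi.single_zero, h.zero]; exact one_mem _
        · rw [h3]; exact subset_closure ⟨a, rfl⟩
    have h1 := key Finset.univ
    rwa [Finset.univ_sum_single] at h1
  · rw [closure_le]
    rintro _ ⟨i, rfl⟩
    exact h.mem _

theorem typeFive_of_even {S P : Subgroup G} {ε : (Fin 5 → ZMod 2) → G} (h : EvenSet 5 (zl S P) P ε) :
    TypeFive S P := ⟨_, fv_of_even h⟩

/-- `|V / C_V(V')| ≤ 2`, `|V' / C_{V'}(V)| ≤ 2` : `[V, V']` has at most one nontrivial element. -/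
theorem exists_center {V V' : Subgroup G} (t1 : TwoAct V' V) (t2 : TwoAct V V') (hne : ⁅V, V'⁆ ≠ ⊥) :
    ∃ n ∈ (⁅V, V'⁆ : Subgroup G), ∀ v ∈ V, ∀ w ∈ V', v * w * v⁻¹ = w ∨ v * w * v⁻¹ = n * w := by
  obtain ⟨v0, hv0, w0, hw0, h0⟩ : ∃ v ∈ V, ∃ w ∈ V', v * w * v⁻¹ ≠ w := by
    by_contra hcon
    push Not at hcon
    apply hne
    rw [commutator_eq_bot_iff_le_centralizer]
    intro v hv
    rw [mem_centralizer_iff]
    intro w hw
    exact (comm_iff.1 (hcon v hv w hw)).symm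
  have hv0' : v0 ∉ centralizer (V' : Set G) := fun h1 =>
    h0 (comm_iff.2 (mem_centralizer_iff.1 h1 w0 hw0).symm)
  have hw0' : w0 ∉ centralizer (V : Set G) := fun h1 =>
    h0 (comm_iff.2 (mem_centralizer_iff.1 h1 v0 hv0))
  refine ⟨⁅v0, w0⁆, commutator_mem_commutator hv0 hw0, fun v hv w hw => ?_⟩
  by_cases h1 : v ∈ centralizer (V' : Set G)
  · left; exact comm_iff.2 (mem_centralizer_iff.1 h1 w hw).symm
  by_cases h2 : w ∈ centralizer (V : Set G)
  · left; exact comm_iff.2 (mem_centralizer_iff.1 h2 v hv)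
  right
  have h3 := t2 v0 hv0 v hv hv0' h1
  have h4 := t1 w0 hw0 w hw hw0' h2
  obtain ⟨c, hc⟩ : ∃ c, c = v0⁻¹ * v := ⟨_, rfl⟩
  obtain ⟨e, he⟩ : ∃ e, e = w0⁻¹ * w := ⟨_, rfl⟩
  rw [← hc] at h3
  rw [← he] at h4
  have hcV : c ∈ V := hc ▸ mul_mem (inv_mem hv0) hv
  have heV' : e ∈ V' := he ▸ mul_mem (inv_mem hw0) hw
  have hv : v = v0 * c := by rw [hc]; group
  have hw' : w = w0 * e := by rw [he]; group
  have k1 : w0 * c = c * w0 := mem_centralizer_iff.1 h3 w0 hw0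
  have k2 : e * c = c * e := mem_centralizer_iff.1 h3 e heV'
  have k3 : v0 * e = e * v0 := mem_centralizer_iff.1 h4 v0 hv0
  rw [commutatorElement_def, hv, hw']
  calc v0 * c * (w0 * e) * (v0 * c)⁻¹ = v0 * ((c * w0) * e) * c⁻¹ * v0⁻¹ := by group
    _ = v0 * (w0 * (c * e)) * c⁻¹ * v0⁻¹ := by rw [← k1, mul_assoc w0]
    _ = v0 * w0 * (e * c) * c⁻¹ * v0⁻¹ := by rw [← k2]; group
    _ = v0 * w0 * (e * v0⁻¹) := by group
    _ = v0 * w0 * (v0⁻¹ * (v0 * e) * v0⁻¹) := by group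
    _ = v0 * w0 * (v0⁻¹ * (e * v0) * v0⁻¹) := by rw [k3]
    _ = v0 * w0 * v0⁻¹ * w0⁻¹ * (w0 * e) := by group

end

/-- **`NatFive` does not occur.** -/
theorem natFive_false {G : Type u} [Group G] [Finite G] (hG : IsCharacteristicTwoType G) (S : Sylow 2 G)
    {P₁ P₂ : Subgroup G} {y : G} {ε : (Fin (2 ^ 2 + 1) → ZMod 2) → G} (hl : Lab S P₁ P₂ y 2 ε)
    (h4 : Nat.card (zl (S : Subgroup G) P₂) = 4) : False :=
  false_nat hG S hl.pair (typeFive_of_even hl.even) h4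

/-- **`TTCen` does not occur.** -/
theorem ttCen_false {G : Type u} [Group G] [Finite G] (hG : IsCharacteristicTwoType G) (S : Sylow 2 G)
    {P₁ P₂ : Subgroup G} {y : G} {ε ε₂ : (Fin (2 ^ 2 + 1) → ZMod 2) → G} (hl : LabTwo S P₁ P₂ y 2 2 ε ε₂)
    (t1 : TwoAct (cj y (zl (S : Subgroup G) P₂)) (zl (S : Subgroup G) P₁))
    (t2 : TwoAct (zl (S : Subgroup G) P₁) (cj y (zl (S : Subgroup G) P₂)))
    (hC : Cen (zl (S : Subgroup G) P₁) (cj y (zl (S : Subgroup G) P₂))) : False := by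
  obtain ⟨T, hT⟩ := hC
  obtain ⟨n, hn, hact⟩ := exists_center t1 t2 hl.pair.ne
  refine false_tt hG S hl.pair (typeFive_of_even hl.even) (typeFive_of_even hl.even₂) (n := n) hact T fun x hx => ?_
  exact comm_iff.2 (mem_centralizer_iff.1 (hT hx) n hn).symm

theorem natFive : NatFive.{u} := fun _ _ _ hG S _ _ _ _ _ _ hl _ _ h4 =>
  (natFive_false hG.char2 S hl h4).elim

theorem ttCen : TTCen.{u} := fun _ _ _ hG S _ _ _ _ _ _ _ hl t1 t2 hC =>
  (ttCen_false hG.char2 S hl t1 t2 hC).elim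

/-! ### The leaf without N2 -/

open Cfsg.Agent.Omega.FrameMulti (LeafC) in
/-- **II.c** from `TTNon`, `NatBig`, `SymBig` : no node N2 at `m = 2`. -/
theorem leafC_of {K : Cls.{u}} (h3 : TTNon.{u}) (h4 : NatBig K) (h5 : SymBig K) : LeafC K := by
  intro G _ _ hG hcl S hF hI hT hW hSF P₁ P₂ x hm hF₁ hF₂ m hm2 hS hc
  obtain ⟨y, hp⟩ := exists_pos hG.char2 S hT hm
  rcases hc with hN | ⟨m', hm2', hS'⟩
  · obtain ⟨ε, hl⟩ := hp.lab hm2 hS hF₁
    have h4' := Nat.card_four S (three_le (by omega : 1 ≤ m)) hp.off₁ hp.off₂ hp.pair.star₂.le hp.ge hl.even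
      hl.side hN hF₂
    by_cases hm3 : m = 2
    · subst hm3
      exact (natFive_false hG.char2 S hl h4').elim
    · exact h4 G hG hcl S hF hI hT hW hSF P₁ P₂ y m ε (by omega) hl hN hF₂ h4'
  · obtain ⟨ε, ε₂, hl⟩ := hp.labTwo hm2 hm2' hS hF₁ hS' hF₂
    by_cases hbig : 3 ≤ m ∨ 3 ≤ m'
    · exact h5 G hG hcl S hF hI hT hW hSF P₁ P₂ y m m' ε ε₂ hm2 hm2' hbig hl
    · obtain rfl : m = 2 := by omega
      obtain rfl : m' = 2 := by omega
      obtain ⟨t1, t2⟩ := OfEven.index_le_two hG.char2 S hl.even hl.even₂ hp.pair.star₁.le hp.pair.star₂.le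
        (zc_le_zl _ _) (zc_le_zl _ _) (g := y) hp.pair.le₂ hp.pair.le₁
      by_cases hC : Cen (zl (S : Subgroup G) P₁) (cj y (zl (S : Subgroup G) P₂))
      · exact (ttCen_false hG.char2 S hl t1 t2 hC).elim
      · exact (h3 G hG S hF hI P₁ P₂ y ε ε₂ hl t1 t2 hC).elim

end Cfsg.Agent.Omega.NTwo.Zero
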